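import Cfsg.Agent.Lib.Clifford.Degree
import Cfsg.Agent.Lib.Clifford.Degrees
import Cfsg.Agent.Lib.Clifford.AbelianQuot
import Cfsg.Agent.Lib.Clifford.TwoDegrees
import Cfsg.Agent.Lib.Char.Taketa

/-!
# Groups with three character degrees: basic tools
-/

set_option autoImplicit false

namespace CfsgLib.ThreeDeg

open CfsgLib CfsgLib.Clifford

universe u

variable {G : Type u} [Group G] [Finite G]

/-- Every irreducible degree is `1`, `a` or `b`. -/
def D3 (G : Type u) [Group G] (a b : ℕ) : Prop :=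
  ∀ χ : G → ℂ, Cfsg.IsIrrCharacter G χ →
    Cfsg.charDegree χ = 1 ∨ Cfsg.charDegree χ = a ∨ Cfsg.charDegree χ = b

theorem D3.symm {a b : ℕ} (h : D3 G a b) : D3 G b a := fun χ hχ => by
  rcases h χ hχ with h | h | h
  · exact Or.inl h
  · exact Or.inr (Or.inr h)
  · exact Or.inr (Or.inl h)

theorem cast_deg {χ : G → ℂ} (hχ : Cfsg.IsIrrCharacter G χ) :
    (Cfsg.charDegree χ : ℂ) = χ 1 :=
  BlockB.charDegree_cast (Char.irr_isCharacter hχ)

theorem deg_pos {χ : G → ℂ} (hχ : Cfsg.IsIrrCharacter G χ) : 0 < Cfsg.charDegree χ :=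
  Nat.pos_of_ne_zero fun h => Char.irr_apply_one_ne_zero hχ (by rw [← cast_deg hχ, h, Nat.cast_zero])

theorem deg_comp {Q : Type u} [Group Q] [Finite Q] {ψ : Q → ℂ} (hψ : Cfsg.IsIrrCharacter Q ψ)
    (f : G →* Q) (hf : Function.Surjective f) :
    Cfsg.charDegree (ψ ∘ f) = Cfsg.charDegree ψ := by
  have h : (Cfsg.charDegree (ψ ∘ f) : ℂ) = Cfsg.charDegree ψ := by
    rw [cast_deg hψ, cast_deg (Char.isIrrCharacter_comp_surjective hψ f hf), Function.comp_apply,
      map_one]
  exact_mod_cast h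

theorem D3.quotient {a b : ℕ} (h : D3 G a b) (N : Subgroup G) [N.Normal] : D3 (G ⧸ N) a b := by
  intro ψ hψ
  have h1 := h _ (Char.isIrrCharacter_comp_surjective hψ _ (QuotientGroup.mk'_surjective N))
  rwa [deg_comp hψ _ (QuotientGroup.mk'_surjective N)] at h1

theorem derived_le_of_quot (N : Subgroup G) [N.Normal] {k : ℕ}
    (h : derivedSeries (G ⧸ N) k = ⊥) : derivedSeries G k ≤ N := by
  rw [← map_derivedSeries_eq (f := QuotientGroup.mk' N) (QuotientGroup.mk'_surjective N) k,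
    Subgroup.map_eq_bot_iff, QuotientGroup.ker_mk'] at h
  exact h

theorem derived_le_map_add {N : Subgroup G} {i j : ℕ}
    (h : derivedSeries G i ≤ (derivedSeries N j).map N.subtype) :
    ∀ k, derivedSeries G (i + k) ≤ (derivedSeries N (j + k)).map N.subtype := by
  intro k
  induction k with
  | zero => exact h
  | succ k ih =>
    rw [← Nat.add_assoc, ← Nat.add_assoc, derivedSeries_succ, derivedSeries_succ,
      Subgroup.map_commutator]
    exact Subgroup.commutator_mono ih ih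

theorem derived_two_of_two {c : ℕ}
    (h : ∀ χ : G → ℂ, Cfsg.IsIrrCharacter G χ → Cfsg.charDegree χ = 1 ∨ Cfsg.charDegree χ = c) :
    derivedSeries G 2 = ⊥ := by
  have hkey : ∀ a ∈ commutator G, ∀ b ∈ commutator G, a * b = b * a := by
    by_cases hc : ∃ χ : Cfsg.IrrCharacter G, Cfsg.charDegree (χ : G → ℂ) = c ∧ c ≠ 1
    · obtain ⟨χ, h1, h2⟩ := hc
      exact TwoDegrees.commutator_comm ⟨χ, h1⟩ h2 fun χ => h χ.1 χ.2
    · push Not at hc
      have hab : ∀ a b : G, a * b = b * a := Char.comm_iff_forall_degree_one.mpr fun ψ => by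
        rw [← cast_deg ψ.2]
        rcases h ψ.1 ψ.2 with h1 | h1
        · exact_mod_cast h1
        · exact_mod_cast h1.trans (hc ψ h1)
      exact fun a _ b _ => hab a b
  rw [derivedSeries_succ, derivedSeries_one, eq_bot_iff, Subgroup.commutator_le]
  intro a ha b hb
  rw [Subgroup.mem_bot, commutatorElement_def, hkey a ha b hb]
  group

theorem derived_one_of_linear
    (h : ∀ χ : G → ℂ, Cfsg.IsIrrCharacter G χ → Cfsg.charDegree χ = 1) :
    derivedSeries G 1 = ⊥ := by
  have hab : ∀ a b : G, a * b = b * a := Char.comm_iff_forall_degree_one.mpr fun ψ => by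
    rw [← cast_deg ψ.2, h ψ.1 ψ.2, Nat.cast_one]
  rw [derivedSeries_one, commutator_def, eq_bot_iff, Subgroup.commutator_le]
  intro a _ b _
  rw [Subgroup.mem_bot, commutatorElement_def, hab a b]
  group

/-- Taketa's step for a monomial character. -/
theorem commutator_le_ker_of_monomial [Fintype G] {d : ℕ} {χ : G → ℂ} (hd : χ 1 = (d : ℂ))
    (hM : ∃ (H : Subgroup G) (lam : H →* ℂˣ), χ = Cfsg.indFun H (fun h => (lam h : ℂ)))
    (D : Subgroup G) [D.Normal]
    (hD : ∀ ψ : G → ℂ, Cfsg.IsIrrCharacter G ψ → Cfsg.charDegree ψ < d → ∀ g ∈ D, ψ g = ψ 1) :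
    ∀ g ∈ ⁅D, D⁆, χ g = χ 1 := by
  classical
  intro g hg
  obtain ⟨H, lam, hH⟩ := hM
  have hidx : H.index = d := by
    have := congr_fun hH 1
    rw [hd, Char.indFun_apply_one, map_one, Units.val_one, mul_one] at this
    exact_mod_cast this.symm
  have hdpos : 0 < d := hidx ▸ Nat.pos_of_ne_zero Subgroup.index_ne_zero_of_finite
  have hDH : D ≤ H := by
    intro x hx
    have := Fintype.ofFinite H
    set π : G → ℂ := Cfsg.indFun H (fun _ => 1) with hπ
    have hπc : Cfsg.IsCharacter G π := Char.isCharacter_indFun H Char.isCharacter_one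
    have h11 : Cfsg.classInner π (fun _ => (1 : ℂ)) = 1 := by
      rw [hπ, Char.frobenius_reciprocity H _ _ (Char.irr_isClassFunction Char.isIrrCharacter_one)]
      exact Char.irr_classInner_self Char.isIrrCharacter_one
    obtain ⟨l, hl, hle⟩ := Char.isCharacter_exists_multiset
      (Char.isCharacter_sub_of_constituent hπc Char.isIrrCharacter_one
        (by rw [h11]; exact one_ne_zero))
    have hl1 : l.sum 1 = ((d - 1 : ℕ) : ℂ) := by
      rw [← hle, Pi.sub_apply, hπ, Char.indFun_apply_one, hidx, mul_one,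
        Nat.cast_sub hdpos, Nat.cast_one]
    have hmem : ∀ ψ ∈ l, ψ x = ψ 1 := by
      intro ψ hψ
      obtain ⟨l', rfl⟩ := Multiset.exists_cons_of_mem hψ
      obtain ⟨r, hr⟩ := Char.char_apply_one_eq_nat (Char.isCharacter_multiset_sum (l := l')
        fun φ hφ => Char.irr_isCharacter (hl φ (Multiset.mem_cons_of_mem hφ)))
      rw [Multiset.sum_cons, Pi.add_apply, ← cast_deg (hl ψ (Multiset.mem_cons_self _ _)), hr] at hl1
      have : Cfsg.charDegree ψ + r = d - 1 := by exact_mod_cast hl1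
      exact hD ψ (hl ψ (Multiset.mem_cons_self _ _)) (by omega) x hx
    have hsum : ∀ s : Multiset (G → ℂ), (∀ ψ ∈ s, ψ x = ψ 1) → s.sum x = s.sum 1 := fun s => by
      induction s using Multiset.induction with
      | empty => simp
      | cons a s ih' =>
        intro h
        rw [Multiset.sum_cons, Pi.add_apply, Pi.add_apply, h a (Multiset.mem_cons_self a s),
          ih' fun ψ hψ => h ψ (Multiset.mem_cons_of_mem hψ)]
    have hπx : π x = π 1 := by
      have := hsum l hmem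
      rw [← hle] at this
      simpa using this
    rw [hπ, Char.indFun_def, Char.indFun_def] at hπx
    have h2 := mul_left_cancel₀ (inv_ne_zero (by exact_mod_cast Nat.card_pos.ne')) hπx
    by_contra hxH
    have hlt : ∑ y : G, (Cfsg.extendByZero H (fun _ => (1 : ℂ)) (y⁻¹ * x * y)).re <
        ∑ y : G, (Cfsg.extendByZero H (fun _ => (1 : ℂ)) (y⁻¹ * 1 * y)).re := by
      refine Finset.sum_lt_sum (fun y _ => ?_) ⟨1, Finset.mem_univ _, ?_⟩
      · rw [Char.extendByZero_of_mem (g := y⁻¹ * 1 * y) _ (by simp)]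
        by_cases hy : y⁻¹ * x * y ∈ H
        · rw [Char.extendByZero_of_mem _ hy]
        · rw [Char.extendByZero_of_not_mem _ hy]; simp
      · rw [Char.extendByZero_of_mem (g := (1 : G)⁻¹ * 1 * 1) _ (by simp),
          Char.extendByZero_of_not_mem _ (by simpa using hxH)]
        simp
    rw [← Complex.re_sum, ← Complex.re_sum, h2] at hlt
    exact lt_irrefl _ hlt
  rw [hH, Char.indFun_def, Char.indFun_def]
  congr 1
  refine Finset.sum_congr rfl fun y _ => ?_
  have hy : y⁻¹ * g * y ∈ ⁅D, D⁆ := by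
    simpa using (Subgroup.commutator_normal D D).conj_mem g hg y⁻¹
  have hyH : y⁻¹ * g * y ∈ H := hDH ((Subgroup.commutator_le_right D D) hy)
  rw [Char.extendByZero_of_mem _ hyH, Char.extendByZero_of_mem (g := y⁻¹ * 1 * y) _ (by simp)]
  have hker : ∀ (z : G) (hz : z ∈ ⁅D, D⁆),
      lam ⟨z, hDH ((Subgroup.commutator_le_right D D) hz)⟩ = 1 := by
    have hle : ⁅D, D⁆ ≤ lam.ker.map H.subtype := by
      rw [Subgroup.commutator_le]
      intro a ha b hb
      refine ⟨⟨a, hDH ha⟩ * ⟨b, hDH hb⟩ * ⟨a, hDH ha⟩⁻¹ * ⟨b, hDH hb⟩⁻¹, ?_, rfl⟩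
      show lam _ = 1
      rw [map_mul, map_mul, map_mul, map_inv, map_inv]
      rw [mul_comm (lam ⟨a, hDH ha⟩), mul_inv_cancel_right, mul_inv_cancel]
    intro z hz
    obtain ⟨w, hw, hwz⟩ := hle hz
    exact (congr_arg lam (Subtype.ext hwz.symm)).trans hw
  show ((lam ⟨y⁻¹ * g * y, hyH⟩ : ℂˣ) : ℂ) = ((lam ⟨y⁻¹ * 1 * y, _⟩ : ℂˣ) : ℂ)
  rw [hker _ hy, ← map_one lam]
  congr 2
  exact Subtype.ext (by simp)

/-- Monomial groups with three degrees `1 < a ≤ b` have derived length at most three. -/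
theorem derived_three_of_monomial [Fintype G] {a b : ℕ} (ha1 : 1 ≤ a) (hab : a ≤ b) (h : D3 G a b)
    (hM : ∀ χ : G → ℂ, Cfsg.IsIrrCharacter G χ →
      ∃ (H : Subgroup G) (lam : H →* ℂˣ), χ = Cfsg.indFun H (fun h => (lam h : ℂ))) :
    derivedSeries G 3 = ⊥ := by
  classical
  have hlin : ∀ χ : G → ℂ, Cfsg.IsIrrCharacter G χ → Cfsg.charDegree χ = 1 →
      ∀ g ∈ derivedSeries G 1, χ g = χ 1 := by
    intro χ hχ h1 g hg
    obtain ⟨lam, rfl⟩ := Char.exists_hom_of_degree_one (Char.irr_isCharacter hχ)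
      (by rw [← cast_deg hχ, h1, Nat.cast_one])
    rw [derivedSeries_one] at hg
    have : lam g = 1 := Abelianization.commutator_subset_ker lam hg
    simp [this]
  have ha : ∀ χ : G → ℂ, Cfsg.IsIrrCharacter G χ → Cfsg.charDegree χ ≤ a →
      ∀ g ∈ derivedSeries G 2, χ g = χ 1 := by
    intro χ hχ hle g hg
    by_cases h1 : Cfsg.charDegree χ = 1
    · exact hlin χ hχ h1 g (derivedSeries_antitone G one_le_two hg)
    refine commutator_le_ker_of_monomial (d := Cfsg.charDegree χ) (cast_deg hχ).symm (hM χ hχ)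
      (derivedSeries G 1) (fun ψ hψ hlt => hlin ψ hψ ?_) g hg
    rcases h ψ hψ with h' | h' | h' <;> omega
  rw [eq_bot_iff]
  intro g hg
  rw [Subgroup.mem_bot]
  by_contra hne
  obtain ⟨χ, hχ⟩ := Char.exists_irr_apply_ne hne
  apply hχ
  by_cases hle : Cfsg.charDegree (χ : G → ℂ) ≤ a
  · exact ha χ.1 χ.2 hle g (derivedSeries_antitone G (by omega) hg)
  refine commutator_le_ker_of_monomial (d := Cfsg.charDegree (χ : G → ℂ)) (cast_deg χ.2).symm
    (hM χ.1 χ.2) (derivedSeries G 2) (fun ψ hψ hlt => ha ψ hψ ?_) g hg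
  have hpos := deg_pos hψ
  rcases h χ.1 χ.2 with h' | h' | h' <;> rcases h ψ hψ with h'' | h'' | h'' <;> omega

end CfsgLib.ThreeDeg
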