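import Cfsg.Agent.Lib.ThreeDeg.Basic
import Cfsg.Agent.Lib.BlockB.Codegree
import Cfsg.Agent.Lib.Clifford.Intertwiner
import Cfsg.Agent.Lib.Clifford.Extension

/-!
# Degrees of characters nontrivial on a perfect normal subgroup
-/

set_option autoImplicit false

namespace CfsgLib.ThreeDeg

open CfsgLib CfsgLib.Clifford

universe u

variable {G : Type u} [Group G] [Fintype G]

/-- A perfect subgroup has only the trivial linear character. -/
theorem eq_one_of_perfect {D : Subgroup G} (hperf : ⁅D, D⁆ = D) (f : D →* ℂˣ) : f = 1 := by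
  refine MonoidHom.ext fun x => ?_
  have hle : ⁅D, D⁆ ≤ f.ker.map D.subtype := by
    rw [Subgroup.commutator_le]
    intro a ha b hb
    refine ⟨⟨a, ha⟩ * ⟨b, hb⟩ * ⟨a, ha⟩⁻¹ * ⟨b, hb⟩⁻¹, ?_, rfl⟩
    show f _ = 1
    rw [map_mul, map_mul, map_mul, map_inv, map_inv, mul_comm (f ⟨a, ha⟩), mul_inv_cancel_right,
      mul_inv_cancel]
  obtain ⟨y, hy, hyx⟩ := (hperf ▸ hle) x.2
  have : y = x := Subtype.ext hyx
  exact this ▸ hy

/-- An invariant nontrivial character of degree prime to `p` of a normal subgroup of order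
divisible by `p`. -/
theorem exists_invariant_pPrime {p : ℕ} [hp : Fact p.Prime] (P : Subgroup G) (hP : IsPGroup p P)
    (D : Subgroup G) [D.Normal] [Fintype D] (hpD : p ∣ Nat.card D) :
    ∃ θ : Cfsg.IrrCharacter D, (θ : D → ℂ) ≠ (fun _ => 1) ∧
      ¬ p ∣ Cfsg.charDegree (θ : D → ℂ) ∧
      ∀ x ∈ P, conjFn x (θ : D → ℂ) = (θ : D → ℂ) := by
  classical
  have := Fintype.ofFinite (Cfsg.IrrCharacter D)
  by_contra hcon
  push Not at hcon
  letI act : MulAction P (Cfsg.IrrCharacter D) :=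
    { smul := fun x θ => ⟨conjFn (x : G)⁻¹ (θ : D → ℂ), isIrrCharacter_conjFn θ.2 _⟩
      one_smul := fun θ => Subtype.ext (by
        change conjFn (((1 : P) : G))⁻¹ (θ : D → ℂ) = _
        rw [OneMemClass.coe_one, inv_one, conjFn_one])
      mul_smul := fun x y θ => Subtype.ext (by
        change conjFn (((x * y : P) : G))⁻¹ (θ : D → ℂ) =
          conjFn (x : G)⁻¹ (conjFn (y : G)⁻¹ (θ : D → ℂ))
        rw [conjFn_conjFn, Subgroup.coe_mul, mul_inv_rev]) }
  have hsmul : ∀ (x : P) (θ : Cfsg.IrrCharacter D),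
      ((x • θ : Cfsg.IrrCharacter D) : D → ℂ) = conjFn (x : G)⁻¹ (θ : D → ℂ) := fun _ _ => rfl
  let d : Cfsg.IrrCharacter D → ℕ := fun θ => Cfsg.charDegree (θ : D → ℂ)
  have hd : ∀ (x : P) θ, d (x • θ) = d θ := fun x θ => by
    have h : (d (x • θ) : ℂ) = d θ := by
      simp only [d]
      rw [cast_deg (x • θ).2, cast_deg θ.2, hsmul, conjFn_apply]
      exact congr_arg _ (Subtype.ext (by simp))
    exact_mod_cast h
  let E := {z : Cfsg.IrrCharacter D × ℕ × ℕ // z.2.1 < d z.1 ∧ z.2.2 < d z.1}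
  let eE : E ≃ (θ : Cfsg.IrrCharacter D) × Fin (d θ) × Fin (d θ) :=
    { toFun := fun z => ⟨z.1.1, ⟨z.1.2.1, z.2.1⟩, ⟨z.1.2.2, z.2.2⟩⟩
      invFun := fun z => ⟨(z.1, z.2.1.1, z.2.2.1), z.2.1.2, z.2.2.2⟩
      left_inv := fun z => rfl
      right_inv := fun z => rfl }
  have : Finite E := Finite.of_equiv _ eE.symm
  letI actE : MulAction P E :=
    { smul := fun x z => ⟨(x • z.1.1, z.1.2), (hd x z.1.1).symm ▸ z.2.1, (hd x z.1.1).symm ▸ z.2.2⟩
      one_smul := fun z => Subtype.ext (Prod.ext (one_smul P z.1.1) rfl)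
      mul_smul := fun x y z => Subtype.ext (Prod.ext (mul_smul x y z.1.1) rfl) }
  have hcard : Nat.card E = Nat.card D := by
    rw [Nat.card_congr eE, Nat.card_sigma, ← BlockB.sum_degree_sq]
    refine Finset.sum_congr rfl fun θ _ => ?_
    rw [Nat.card_prod, Nat.card_fin, ← pow_two]
  have h1 := hP.card_modEq_card_fixedPoints E
  rw [hcard] at h1
  -- the fixed points are counted by invariant characters
  let F := {θ : Cfsg.IrrCharacter D // ∀ x : P, x • θ = θ}
  have eF : MulAction.fixedPoints P E ≃ (θ : F) × Fin (d θ.1) × Fin (d θ.1) :=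
    { toFun := fun z => ⟨⟨z.1.1.1, fun x => congr_arg (fun w : E => w.1.1) (z.2 x)⟩,
        ⟨z.1.1.2.1, z.1.2.1⟩, ⟨z.1.1.2.2, z.1.2.2⟩⟩
      invFun := fun z => ⟨⟨(z.1.1, z.2.1.1, z.2.2.1), z.2.1.2, z.2.2.2⟩,
        fun x => Subtype.ext (Prod.ext (z.1.2 x) rfl)⟩
      left_inv := fun z => rfl
      right_inv := fun z => rfl }
  have := Fintype.ofFinite F
  rw [Nat.card_congr eF, Nat.card_sigma] at h1
  let one : Cfsg.IrrCharacter D := ⟨fun _ => 1, Char.isIrrCharacter_one⟩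
  have hone : ∀ x : P, x • one = one := fun x => Subtype.ext (by rw [hsmul]; rfl)
  have hd1 : d one = 1 := by
    have h : (d one : ℂ) = 1 := by simp only [d]; rw [cast_deg one.2]
    exact_mod_cast h
  have hzero : ∀ θ : F, θ ≠ ⟨one, hone⟩ → p ∣ Nat.card (Fin (d θ.1) × Fin (d θ.1)) := by
    intro θ hne
    rw [Nat.card_prod, Nat.card_fin]
    refine dvd_mul_of_dvd_left ?_ _
    by_contra hnd
    obtain ⟨x, hx, hmov⟩ := hcon θ.1 (fun h => hne (Subtype.ext (Subtype.ext h))) hnd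
    apply hmov
    have h2 := congr_arg Subtype.val (θ.2 ⟨x⁻¹, P.inv_mem hx⟩)
    rw [hsmul, inv_inv] at h2
    exact h2
  rw [← Finset.add_sum_erase _ _ (Finset.mem_univ (⟨one, hone⟩ : F)), Nat.card_prod,
    Nat.card_fin, hd1, mul_one] at h1
  have h2 : (Nat.card D : ℕ) ≡ 0 [MOD p] := Nat.modEq_zero_iff_dvd.mpr hpD
  have h3 : (1 + ∑ θ ∈ (Finset.univ : Finset F).erase ⟨one, hone⟩,
      Nat.card (Fin (d θ.1) × Fin (d θ.1))) ≡ 1 + 0 [MOD p] :=
    Nat.ModEq.add_left 1 (Nat.modEq_zero_iff_dvd.mpr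
      (Finset.dvd_sum fun θ hθ => hzero θ (Finset.ne_of_mem_erase hθ)))
  have h4 := (h2.symm.trans h1).trans h3
  exact hp.out.not_dvd_one (Nat.modEq_zero_iff_dvd.mp h4.symm)

/-- Some character nontrivial on a perfect normal subgroup has degree prime to `p`. -/
theorem exists_pPrime_nontrivial {p : ℕ} [hp : Fact p.Prime] (D : Subgroup G) [D.Normal]
    (hperf : ⁅D, D⁆ = D) (hpD : p ∣ Nat.card D) :
    ∃ χ : Cfsg.IrrCharacter G, ¬ p ∣ Cfsg.charDegree (χ : G → ℂ) ∧
      ∃ x ∈ D, (χ : G → ℂ) x ≠ (χ : G → ℂ) 1 := by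
  classical
  obtain ⟨P⟩ : Nonempty (Sylow p G) := inferInstance
  obtain ⟨θ, hθ1, hθd, hθinv⟩ := exists_invariant_pPrime (P : Subgroup G) P.isPGroup' D hpD
  set W : Subgroup G := D ⊔ P with hW
  set D' := D.subgroupOf W with hD'
  let θ' : D' → ℂ := fun x => (θ : D → ℂ) ⟨(x : W), x.2⟩
  have hθ' : Cfsg.IsIrrCharacter D' θ' := Char.isIrrCharacter_comp_surjective θ.2
    (Subgroup.subgroupOfEquivOfLe (le_sup_left : D ≤ W)).toMonoidHom
    (Subgroup.subgroupOfEquivOfLe (le_sup_left : D ≤ W)).surjective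
  obtain ⟨n, ρ, hρ, hρe⟩ := hθ'
  have hinv : ∀ (w : W) (x : D'), ρ.character (conjN w x) = ρ.character x := by
    have hfix : ∀ w : G, w ∈ W → conjFn w (θ : D → ℂ) = (θ : D → ℂ) := by
      intro w hw
      obtain ⟨y, hy, z, hz, rfl⟩ := Subgroup.mem_sup_of_normal_left.mp hw
      rw [← conjFn_conjFn, show conjFn y (θ : D → ℂ) = (θ : D → ℂ) from
        mem_inertia_iff_conjFn.mp (le_inertia (Char.irr_isClassFunction θ.2) hy), hθinv z hz]
    intro w x
    rw [hρe]
    exact congr_fun (hfix w w.2) ⟨(x : W), x.2⟩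
  have hdet : ∀ x : D', ((1 : W →* ℂˣ) x : ℂ) = LinearMap.det (ρ x) := by
    intro x
    let f : D →* ℂˣ := (LinearMap.det.comp
      (ρ.comp (Subgroup.subgroupOfEquivOfLe (le_sup_left : D ≤ W)).symm.toMonoidHom)).toHomUnits
    have hf := congr_arg (fun g : D →* ℂˣ => (g ⟨(x : W), x.2⟩ : ℂ)) (eq_one_of_perfect hperf f)
    simp only [MonoidHom.one_apply, Units.val_one] at hf ⊢
    exact hf.symm
  have hn : Cfsg.charDegree (θ : D → ℂ) = n := by
    have h : (Cfsg.charDegree (θ : D → ℂ) : ℂ) = (n : ℂ) := by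
      rw [cast_deg θ.2]
      have := congr_fun hρe 1
      rw [Representation.char_one, Module.finrank_fin_fun] at this
      exact this.symm
    exact_mod_cast h
  have hidx : ∃ k, D'.index = p ^ k := by
    have h : D'.index = D.relIndex (P : Subgroup G) := by
      change D.relIndex W = _
      rw [hW, sup_comm, Subgroup.relIndex_sup_right]
    obtain ⟨k, hk⟩ := IsPGroup.iff_card.mp P.isPGroup'
    have hdvd : D.relIndex (P : Subgroup G) ∣ p ^ k := hk ▸ Subgroup.index_dvd_card _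
    obtain ⟨i, -, hi⟩ := (Nat.dvd_prime_pow hp.out).mp hdvd
    exact ⟨i, h.trans hi⟩
  obtain ⟨k, hk⟩ := hidx
  obtain ⟨Θ, hΘ, hΘD⟩ := exists_irr_extension_of_det ρ hinv 1 hdet (by
    rw [hk]
    exact Nat.Coprime.pow_left k (hp.out.coprime_iff_not_dvd.mpr (hn ▸ hθd)))
  have := Fintype.ofFinite W
  obtain ⟨l, hl, hsum⟩ := Char.isCharacter_exists_multiset
    (Char.isCharacter_indFun W (Char.irr_isCharacter hΘ))
  have hΘ1 : Θ 1 = (n : ℂ) := by
    have h := hΘD 1
    rw [OneMemClass.coe_one, Representation.char_one, Module.finrank_fin_fun] at h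
    exact h
  have hWp : ¬ p ∣ W.index * n := fun h => by
    rcases hp.out.dvd_mul.mp h with h | h
    · exact P.not_dvd_index (h.trans (Subgroup.index_dvd_of_le (le_sup_right (a := D))))
    · exact hθd (hn ▸ h)
  obtain ⟨χ, hχl, hχp⟩ : ∃ χ ∈ l, ¬ p ∣ Cfsg.charDegree χ := by
    by_contra hcon
    push Not at hcon
    apply hWp
    have h1 : ∀ s : Multiset (G → ℂ), (∀ φ ∈ s, Cfsg.IsIrrCharacter G φ) →
        (∀ φ ∈ s, p ∣ Cfsg.charDegree φ) → ∃ c : ℕ, s.sum 1 = ((p * c : ℕ) : ℂ) := by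
      intro s hs hsd
      induction s using Multiset.induction with
      | empty => exact ⟨0, by simp⟩
      | cons x s ih =>
        obtain ⟨c, hc⟩ := ih (fun φ hφ => hs φ (Multiset.mem_cons_of_mem hφ))
          (fun φ hφ => hsd φ (Multiset.mem_cons_of_mem hφ))
        obtain ⟨e, he⟩ := hsd x (Multiset.mem_cons_self _ _)
        refine ⟨e + c, ?_⟩
        rw [Multiset.sum_cons, Pi.add_apply, hc, ← cast_deg (hs x (Multiset.mem_cons_self _ _)), he]
        push_cast; ring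
    obtain ⟨c, hc⟩ := h1 l hl hcon
    rw [← hsum, Char.indFun_apply_one, hΘ1] at hc
    exact ⟨c, by exact_mod_cast hc⟩
  refine ⟨⟨χ, hl χ hχl⟩, hχp, ?_⟩
  by_contra hcon
  push Not at hcon
  -- then `θ` would be trivial
  obtain ⟨l', hl'⟩ := Multiset.exists_cons_of_mem hχl
  have hne : Cfsg.classInner (fun w : W => χ w) Θ ≠ 0 := by
    intro h0
    have h1 := Char.frobenius_reciprocity W Θ χ (Char.irr_isClassFunction (hl χ hχl))
    rw [← Char.classInner_conj_symm (fun w : W => χ w) Θ, h0, map_zero] at h1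
    obtain ⟨r, hr⟩ := Char.classInner_isCharacter_nat
      (Char.isCharacter_multiset_sum (l := l') fun φ hφ =>
        Char.irr_isCharacter (hl φ (hl' ▸ Multiset.mem_cons_of_mem hφ)))
      (Char.irr_isCharacter (hl χ hχl))
    rw [hsum, hl', Multiset.sum_cons, Char.classInner_add_left,
      Char.irr_classInner_self (hl χ hχl), hr] at h1
    have h2 : 1 + r = 0 := by exact_mod_cast h1
    omega
  apply hθ1
  funext x
  let x' : D' := ⟨⟨x, le_sup_left (b := (P : Subgroup G)) x.2⟩, x.2⟩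
  have h3 := constituent_eq_one (Char.isCharacter_restrict (Char.irr_isCharacter (hl χ hχl)) W)
    hΘ hne (a := (x' : W)) (hcon x x.2)
  rw [hΘD x', hΘ1, congr_fun hρe x'] at h3
  have hlin : (θ : D → ℂ) x = (θ : D → ℂ) 1 := by
    rw [← cast_deg θ.2, hn]; exact h3
  -- an irreducible character constant on `D` is trivial
  have hall : ∀ y : D, (θ : D → ℂ) y = (θ : D → ℂ) 1 := by
    intro y
    let y' : D' := ⟨⟨y, le_sup_left (b := (P : Subgroup G)) y.2⟩, y.2⟩
    have h4 := constituent_eq_one (Char.isCharacter_restrict (Char.irr_isCharacter (hl χ hχl)) W)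
      hΘ hne (a := (y' : W)) (hcon y y.2)
    rw [hΘD y', hΘ1, congr_fun hρe y'] at h4
    rw [← cast_deg θ.2, hn]; exact h4
  have h5 := BlockB.eq_one_of_charKer_eq_top θ ((Subgroup.eq_top_iff' _).mpr hall)
  exact congr_fun h5 x

/-- The degrees nontrivial on a perfect normal subgroup are not all equal. -/
theorem exists_other_degree {D : Subgroup G} [D.Normal] (hperf : ⁅D, D⁆ = D) (hD : D ≠ ⊥) (b : ℕ) :
    ∃ χ : Cfsg.IrrCharacter G, Cfsg.charDegree (χ : G → ℂ) ≠ b ∧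
      ∃ x ∈ D, (χ : G → ℂ) x ≠ (χ : G → ℂ) 1 := by
  classical
  by_contra hcon
  push Not at hcon
  obtain ⟨d, hd1⟩ := Subgroup.ne_bot_iff_exists_ne_one.mp hD
  have := Fintype.ofFinite D
  obtain ⟨θ, hθ⟩ := Char.exists_irr_apply_ne (G := D) hd1
  have hθ2 : Cfsg.charDegree (θ : D → ℂ) ≠ 1 := by
    intro h1
    obtain ⟨lam, hlam⟩ := Char.exists_hom_of_degree_one (Char.irr_isCharacter θ.2)
      (by rw [← cast_deg θ.2, h1, Nat.cast_one])
    apply hθ
    rw [hlam, eq_one_of_perfect hperf lam]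
    simp
  obtain ⟨q, hq, hqθ⟩ := Nat.exists_prime_and_dvd hθ2
  have := Fact.mk hq
  obtain ⟨χ, hχ, hne⟩ := Degrees.exists_over D θ.2
  have hχb : Cfsg.charDegree χ = b := by
    by_contra hb
    apply hθ
    exact constituent_eq_one (Char.isCharacter_restrict (Char.irr_isCharacter hχ) D) θ.2 hne
      (a := d) (hcon ⟨χ, hχ⟩ hb d d.2)
  have hqb : q ∣ b := hχb ▸ hqθ.trans
    (dvd_of_mul_left_dvd (Degrees.index_inertia_mul_dvd D θ.2 hχ hne))
  obtain ⟨χ', hχ', x, hx, hxne⟩ := exists_pPrime_nontrivial D hperf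
    (hqθ.trans (Degrees.charDegree_dvd_card θ.2))
  exact hxne (hcon χ' (fun h => hχ' (h ▸ hqb)) x hx)

end CfsgLib.ThreeDeg
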