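import Cfsg.Agent.Lib.ThreeDeg.Basic
import Cfsg.Agent.Lib.Char.Invariants
import Cfsg.Agent.Lib.Char.Diag
import Cfsg.Agent.Lib.Clifford.CosetAvg

/-!
# Products of faithful characters of coprime degrees
-/

set_option autoImplicit false

namespace CfsgLib.ThreeDeg

open CfsgLib CfsgLib.Clifford
open scoped ComplexConjugate

universe u

variable {G : Type u} [Group G] [Fintype G] {a b : ℕ}

theorem classInner_ne_zero_of_mem {l : Multiset (G → ℂ)}
    (hl : ∀ φ ∈ l, Cfsg.IsIrrCharacter G φ) {μ : G → ℂ} (hμ : μ ∈ l) :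
    Cfsg.classInner l.sum μ ≠ 0 := by
  obtain ⟨l', rfl⟩ := Multiset.exists_cons_of_mem hμ
  obtain ⟨r, hr⟩ := Char.classInner_isCharacter_nat (G := G)
    (Char.isCharacter_multiset_sum (l := l') fun φ hφ =>
      Char.irr_isCharacter (hl φ (Multiset.mem_cons_of_mem hφ)))
    (Char.irr_isCharacter (hl μ (Multiset.mem_cons_self _ _)))
  rw [Multiset.sum_cons, Char.classInner_add_left,
    Char.irr_classInner_self (hl μ (Multiset.mem_cons_self _ _)), hr]
  exact_mod_cast (by omega : 1 + r ≠ 0)

theorem classInner_sum_eq_zero {l : Multiset (G → ℂ)} {μ : G → ℂ}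
    (h : ∀ φ ∈ l, Cfsg.classInner φ μ = 0) : Cfsg.classInner l.sum μ = 0 := by
  induction l using Multiset.induction with
  | empty => simp [Char.classInner_def]
  | cons x l ih =>
    rw [Multiset.sum_cons, Char.classInner_add_left, h x (Multiset.mem_cons_self _ _),
      ih fun φ hφ => h φ (Multiset.mem_cons_of_mem hφ), add_zero]

theorem classInner_mul_conj (x y z : G → ℂ) :
    Cfsg.classInner (x * y) z = Cfsg.classInner x (fun g => conj (y g) * z g) :=
  classInner_mul_left' x y z

/-- All constituents of `X η` have degree `a`. -/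
def AType (a : ℕ) (η X : G → ℂ) : Prop :=
  ∀ μ, Cfsg.IsIrrCharacter G μ → Cfsg.classInner (X * η) μ ≠ 0 → Cfsg.charDegree μ = a

theorem no_linear (hab : a ≠ b) {X η : G → ℂ} (hX : Cfsg.IsIrrCharacter G X)
    (hXa : Cfsg.charDegree X = a) (hη : Cfsg.IsIrrCharacter G η) (hηb : Cfsg.charDegree η = b)
    {μ : G → ℂ} (hμ : Cfsg.IsIrrCharacter G μ) (h1 : Cfsg.charDegree μ = 1) :
    Cfsg.classInner (X * η) μ = 0 := by
  obtain ⟨lam, rfl⟩ := Char.exists_hom_of_degree_one (Char.irr_isCharacter hμ)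
    (by rw [← cast_deg hμ, h1, Nat.cast_one])
  rw [mul_comm, classInner_mul_conj]
  have hX' : Cfsg.IsIrrCharacter G (fun g => conj (X g) * (lam g : ℂ)) := by
    have h := Char.isIrrCharacter_mul_linear (Char.isIrrCharacter_conj hX) lam
    convert h using 1
    funext g; ring
  refine Char.irr_classInner_ne hη hX' fun he => hab ?_
  have h2 : (Cfsg.charDegree η : ℂ) = Cfsg.charDegree X := by
    rw [cast_deg hη, he, cast_deg hX]
    simp only [map_one, Units.val_one, mul_one]
    rw [← cast_deg hX, map_natCast]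
  rw [hXa, hηb] at h2
  exact_mod_cast h2.symm

theorem counting {l : Multiset (G → ℂ)} (hl : ∀ φ ∈ l, Cfsg.IsIrrCharacter G φ)
    (hdeg : ∀ φ ∈ l, Cfsg.charDegree φ = a ∨ Cfsg.charDegree φ = b) :
    ∃ i j : ℕ, l.sum 1 = ((i * a + j * b : ℕ) : ℂ) ∧
      (i = 0 → ∀ φ ∈ l, Cfsg.charDegree φ = b) ∧ (j = 0 → ∀ φ ∈ l, Cfsg.charDegree φ = a) := by
  induction l using Multiset.induction with
  | empty => exact ⟨0, 0, by simp, by simp, by simp⟩
  | cons x l ih =>
    obtain ⟨i, j, hs, hi, hj⟩ := ih (fun φ hφ => hl φ (Multiset.mem_cons_of_mem hφ))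
      (fun φ hφ => hdeg φ (Multiset.mem_cons_of_mem hφ))
    have hx := cast_deg (hl x (Multiset.mem_cons_self _ _))
    rcases hdeg x (Multiset.mem_cons_self _ _) with h | h
    · refine ⟨i + 1, j, ?_, by omega, fun h0 φ hφ => ?_⟩
      · rw [Multiset.sum_cons, Pi.add_apply, hs, ← hx, h]
        push_cast; ring
      · rcases Multiset.mem_cons.mp hφ with rfl | hφ
        · exact h
        · exact hj h0 φ hφ
    · refine ⟨i, j + 1, ?_, fun h0 φ hφ => ?_, by omega⟩
      · rw [Multiset.sum_cons, Pi.add_apply, hs, ← hx, h]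
        push_cast; ring
      · rcases Multiset.mem_cons.mp hφ with rfl | hφ
        · exact h
        · exact hi h0 φ hφ

/-- A product has constituents of one degree only. -/
theorem single_type (hcd : D3 G a b) (hcop : a.Coprime b) (hab : a ≠ b) (ha : 0 < a) (hb : 0 < b)
    {X η : G → ℂ} (hX : Cfsg.IsIrrCharacter G X) (hXa : Cfsg.charDegree X = a)
    (hη : Cfsg.IsIrrCharacter G η) (hηb : Cfsg.charDegree η = b) :
    AType a η X ∨ AType b X η := by
  obtain ⟨l, hl, hsum⟩ := Char.isCharacter_exists_multiset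
    (Char.isCharacter_mul (Char.irr_isCharacter hX) (Char.irr_isCharacter hη))
  have hdeg : ∀ φ ∈ l, Cfsg.charDegree φ = a ∨ Cfsg.charDegree φ = b := fun φ hφ => by
    rcases hcd φ (hl φ hφ) with h | h
    · exact absurd (no_linear hab hX hXa hη hηb (hl φ hφ) h)
        (hsum ▸ classInner_ne_zero_of_mem hl hφ)
    · exact h
  obtain ⟨i, j, hs, hi, hj⟩ := counting hl hdeg
  rw [← hsum, Pi.mul_apply, ← cast_deg hX, ← cast_deg hη, hXa, hηb] at hs
  have hs' : a * b = i * a + j * b := by exact_mod_cast hs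
  have hbi : b ∣ i := hcop.symm.dvd_of_dvd_mul_right
    ((Nat.dvd_add_left (dvd_mul_left b j)).mp (hs' ▸ dvd_mul_left b a))
  have hmem : ∀ μ, Cfsg.IsIrrCharacter G μ → Cfsg.classInner (X * η) μ ≠ 0 → μ ∈ l := by
    intro μ hμ hne
    by_contra hn
    refine hne ?_
    rw [hsum]
    exact classInner_sum_eq_zero fun φ hφ => Char.irr_classInner_ne (hl φ hφ) hμ
      fun he => hn (he ▸ hφ)
  rcases Nat.eq_zero_or_pos i with h0 | h0
  · exact Or.inr fun μ hμ hne => hi h0 μ (hmem μ hμ (by rwa [mul_comm] at hne))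
  · refine Or.inl fun μ hμ hne => hj ?_ μ (hmem μ hμ hne)
    have h1 := Nat.le_of_dvd h0 hbi
    have h2 : b * a ≤ i * a := Nat.mul_le_mul_right a h1
    have h3 : j * b = 0 := by rw [mul_comm b a] at h2; omega
    exact (Nat.mul_eq_zero.mp h3).resolve_right hb.ne'

/-- A faithful character of degree `b` in a centerless group multiplies no character of degree `a`
into degree `a`. -/
theorem not_aType (hcd : D3 G a b) (hcop : a.Coprime b) (ha : 1 < a) (hb : 1 < b)
    (hcen : ∀ g : G, (∀ h : G, g * h = h * g) → g = 1)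
    {X η : G → ℂ} (hX : Cfsg.IsIrrCharacter G X) (hXa : Cfsg.charDegree X = a)
    (hη : Cfsg.IsIrrCharacter G η) (hηb : Cfsg.charDegree η = b)
    (hfaith : ∀ g, η g = η 1 → g = 1) : ¬ AType a η X := by
  intro hA
  have hab : a ≠ b := fun h => by rw [h, Nat.coprime_self] at hcop; omega
  set η' : G → ℂ := fun g => conj (η g) with hη'def
  have hη' : Cfsg.IsIrrCharacter G η' := Char.isIrrCharacter_conj hη
  have hη'b : Cfsg.charDegree η' = b := by
    have h : (Cfsg.charDegree η' : ℂ) = (b : ℂ) := by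
      rw [cast_deg hη', hη'def]
      simp only
      rw [← cast_deg hη, hηb, map_natCast]
    exact_mod_cast h
  have hstep : ∀ (ω ω' : G → ℂ), Cfsg.IsIrrCharacter G ω → Cfsg.charDegree ω = b →
      Cfsg.IsIrrCharacter G ω' → Cfsg.charDegree ω' = b → (∀ g, ω' g = conj (ω g)) →
      ∀ Y, Cfsg.IsIrrCharacter G Y → Cfsg.charDegree Y = a → AType a ω Y →
      ∀ μ, Cfsg.IsIrrCharacter G μ → Cfsg.classInner (Y * ω) μ ≠ 0 →
        Cfsg.charDegree μ = a ∧ AType a ω' μ := by
    intro ω ω' hω hωb hω' hω'b hc Y hY hYa hAY μ hμ hne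
    have hμa := hAY μ hμ hne
    refine ⟨hμa, ?_⟩
    have hne' : Cfsg.classInner (μ * ω') Y ≠ 0 := by
      rw [classInner_mul_conj,
        show (fun g => conj (ω' g) * Y g) = Y * ω from funext fun g => by
          rw [hc, Complex.conj_conj, Pi.mul_apply, mul_comm],
        ← Char.classInner_conj_symm]
      exact fun h => hne (map_eq_zero _ |>.mp h)
    rcases single_type hcd hcop hab (by omega) (by omega) hμ hμa hω' hω'b with h | h
    · exact h
    · exact absurd ((hYa.symm.trans (h Y hY (by rwa [mul_comm] at hne')))) hab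
  -- functions built from good characters
  let Good : (G → ℂ) → Prop := fun F => ∃ l : Multiset (G → ℂ),
    (∀ φ ∈ l, Cfsg.IsIrrCharacter G φ ∧ Cfsg.charDegree φ = a ∧ AType a η φ) ∧ F = l.sum
  set W : G → ℂ := η * η' with hW
  have hgood : ∀ F, Good F → Good (F * W) := by
    rintro F ⟨l, hl, rfl⟩
    induction l using Multiset.induction with
    | empty => exact ⟨0, by simp, by simp⟩
    | cons x l ih =>
      obtain ⟨l₁, hl₁, he₁⟩ := ih fun φ hφ => hl φ (Multiset.mem_cons_of_mem hφ)
      obtain ⟨hx, hxa, hxA⟩ := hl x (Multiset.mem_cons_self _ _)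
      obtain ⟨m, hm, hme⟩ := Char.isCharacter_exists_multiset
        (Char.isCharacter_mul (Char.irr_isCharacter hx) (Char.irr_isCharacter hη))
      have hm' : ∀ μ ∈ m, Cfsg.charDegree μ = a ∧ AType a η' μ := fun μ hμ =>
        hstep η η' hη hηb hη' hη'b (fun g => rfl) x hx hxa hxA μ (hm μ hμ)
          (hme ▸ classInner_ne_zero_of_mem hm hμ)
      have key : ∀ m : Multiset (G → ℂ), (∀ μ ∈ m, Cfsg.IsIrrCharacter G μ) →
          (∀ μ ∈ m, Cfsg.charDegree μ = a ∧ AType a η' μ) → Good (m.sum * η') := by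
        intro m hm hm'
        induction m using Multiset.induction with
        | empty => exact ⟨0, by simp, by simp⟩
        | cons y m ihm =>
          obtain ⟨l₂, hl₂, he₂⟩ := ihm (fun μ hμ => hm μ (Multiset.mem_cons_of_mem hμ))
            (fun μ hμ => hm' μ (Multiset.mem_cons_of_mem hμ))
          have hy := hm y (Multiset.mem_cons_self _ _)
          obtain ⟨hya, hyA⟩ := hm' y (Multiset.mem_cons_self _ _)
          obtain ⟨k, hk, hke⟩ := Char.isCharacter_exists_multiset
            (Char.isCharacter_mul (Char.irr_isCharacter hy) (Char.irr_isCharacter hη'))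
          refine ⟨k + l₂, fun φ hφ => ?_, ?_⟩
          · rcases Multiset.mem_add.mp hφ with h | h
            · exact ⟨hk φ h, hstep η' η hη' hη'b hη hηb (fun g => (Complex.conj_conj _).symm)
                y hy hya hyA φ (hk φ h) (hke ▸ classInner_ne_zero_of_mem hk h)⟩
            · exact hl₂ φ h
          · rw [Multiset.sum_cons, add_mul, he₂, hke, Multiset.sum_add]
      obtain ⟨l₃, hl₃, he₃⟩ := key m hm hm'
      refine ⟨l₃ + l₁, fun φ hφ => ?_, ?_⟩
      · rcases Multiset.mem_add.mp hφ with h | h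
        · exact hl₃ φ h
        · exact hl₁ φ h
      · rw [Multiset.sum_cons, add_mul, Multiset.sum_add, ← he₁, ← he₃, ← hme, hW, mul_assoc]
  have hpow : ∀ k : ℕ, Good (X * W ^ k) := fun k => by
    induction k with
    | zero => exact ⟨{X}, by simp [hX, hXa, hA], by simp⟩
    | succ k ih =>
      rw [pow_succ, ← mul_assoc]
      exact hgood _ ih
  -- the product is faithful
  have hWc : Cfsg.IsCharacter G W :=
    Char.isCharacter_mul (Char.irr_isCharacter hη) (Char.irr_isCharacter hη')
  obtain ⟨n, ρ, hρ⟩ := hWc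
  have hinj : Function.Injective ρ := by
    intro g h hgh
    have h1 : ρ (h⁻¹ * g) = 1 := by
      rw [map_mul, hgh, ← map_mul, inv_mul_cancel, map_one]
    have h2 : W (h⁻¹ * g) = W 1 := by
      rw [← hρ]
      simp only [Representation.character, h1, map_one]
    set x := h⁻¹ * g with hx
    suffices x = 1 by
      rw [hx, inv_mul_eq_one] at this
      exact this.symm
    obtain ⟨d, σ, hσ, hσe⟩ := hη
    have h3 : ‖η x‖ = (Module.finrank ℂ (Fin d → ℂ) : ℝ) := by
      have h4 : ‖η x‖ * ‖η x‖ = ‖η 1‖ * ‖η 1‖ := by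
        have := congr_arg (fun z : ℂ => ‖z‖) h2
        simpa [hW, hη'def, Pi.mul_apply] using this
      have h5 := (mul_self_inj (norm_nonneg _) (norm_nonneg _)).mp h4
      rw [h5, ← hσe, Representation.char_one, Complex.norm_natCast]
    rw [← hσe] at h3
    obtain ⟨c, hc⟩ := (Char.norm_char_eq_iff σ x).mp h3
    apply hcen
    intro y
    have h6 : σ (x * y * x⁻¹ * y⁻¹) = 1 := by
      have hcomm : σ x * σ y = σ y * σ x := by
        rw [hc]
        ext v
        simp
      rw [map_mul, map_mul, map_mul, hcomm, mul_assoc (σ y), ← map_mul, mul_inv_cancel, map_one,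
        mul_one, ← map_mul, mul_inv_cancel, map_one]
    have h7 := hfaith (x * y * x⁻¹ * y⁻¹) (by
      rw [← hσe]
      simp only [Representation.character, h6, map_one])
    rwa [mul_inv_eq_one, mul_inv_eq_iff_eq_mul] at h7
  obtain ⟨k, -, hk⟩ := Char.exists_pow_constituent ρ hinj (Char.isIrrCharacter_conj hX)
  apply hk
  obtain ⟨l, hl, hle⟩ := hpow k
  have h0 : Cfsg.classInner (X * W ^ k) (fun _ => 1) = 0 := by
    rw [hle]
    refine classInner_sum_eq_zero fun φ hφ => ?_
    obtain ⟨hφi, hφa, -⟩ := hl φ hφ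
    refine Char.irr_classInner_ne hφi Char.isIrrCharacter_one fun he => ?_
    have h1 : (Cfsg.charDegree φ : ℂ) = 1 := by rw [cast_deg hφi, he]
    rw [hφa] at h1
    have : a = 1 := by exact_mod_cast h1
    omega
  rw [mul_comm, classInner_mul_conj] at h0
  simp only [mul_one] at h0
  rw [hρ]
  exact h0

end CfsgLib.ThreeDeg
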