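import Cfsg.Agent.Lib.ThreeDeg.Solvable
import Cfsg.Agent.Lib.ThreeDeg.Perfect
import Cfsg.Agent.Lib.ThreeDeg.Product
import Cfsg.Agent.Lib.Char.MonomialAbelian
import Cfsg.Agent.S0855
import Cfsg.Agent.S4456

/-!
# Groups with three character degrees have derived length at most three
-/

set_option autoImplicit false

namespace CfsgLib.ThreeDeg

open CfsgLib CfsgLib.Clifford

universe u

theorem derived_three_of_common {G : Type u} [Group G] [Fintype G] {a b : ℕ} (hcd : D3 G a b)
    (ha : 1 < a) (hb : 1 < b) {p : ℕ} (hp : p.Prime) (hpa : p ∣ a) (hpb : p ∣ b)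
    (hreal : ∃ χ : Cfsg.IrrCharacter G, Cfsg.charDegree (χ : G → ℂ) = a)
    (ih : ∀ N : Subgroup G, Nat.card N < Nat.card G → ∀ a' b' : ℕ, D3 N a' b' →
      derivedSeries N 3 = ⊥) : derivedSeries G 3 = ⊥ := by
  classical
  haveI := Fact.mk hp
  by_cases hpow : (∃ i, a = p ^ i) ∧ (∃ j, b = p ^ j)
  · -- the group is monomial
    obtain ⟨⟨i, hi⟩, j, hj⟩ := hpow
    obtain ⟨A, hAn, hAc, -, k, hk⟩ := Cfsg.Agent.S0855.forward p hp G (Nat.card G) le_rfl
      (fun χ => by
        rcases hcd χ.1 χ.2 with h | h | h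
        · exact ⟨0, by rw [← cast_deg χ.2, h]; simp⟩
        · exact ⟨i, by rw [← cast_deg χ.2, h, hi, Nat.cast_pow]⟩
        · exact ⟨j, by rw [← cast_deg χ.2, h, hj, Nat.cast_pow]⟩)
    have hnil : Group.IsNilpotent (G ⧸ A) :=
      (IsPGroup.of_card (p := p) (n := k) (by rw [← Subgroup.index_eq_card, hk])).isNilpotent
    have hM := Char.monomial_of_isAbelianByNilpotent G ⟨A, hAn, hAc, hnil⟩
    rcases le_total a b with h | h
    · exact derived_three_of_monomial (by omega) h hcd hM
    · exact derived_three_of_monomial (by omega) h hcd.symm hM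
  obtain ⟨N, hNn, hNcop, k, hk⟩ := Cfsg.Agent.S4456.result (G := G) p hp fun χ h => by
    rcases hcd χ.1 χ.2 with h' | h' | h'
    · exact absurd h' h
    · exact h' ▸ hpa
    · exact h' ▸ hpb
  have hNlt : Nat.card N < Nat.card G := by
    refine lt_of_le_of_ne (Subgroup.card_le_card_group N) fun h => ?_
    obtain ⟨χ, hχ⟩ := hreal
    have hd := Degrees.charDegree_dvd_card χ.2
    rw [hχ, ← h] at hd
    exact hp.coprime_iff_not_dvd.mp hNcop.symm (hpa.trans hd)
  have := Fintype.ofFinite N
  let c : ℕ → ℕ := fun d => d / p ^ d.factorization p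
  have hcc : ∀ d e i m : ℕ, d = e * m → e = p ^ i → ¬ p ∣ m → c d = m := by
    intro d e i m hd he hm
    have hm0 : m ≠ 0 := fun h => hm (h ▸ dvd_zero p)
    subst he; subst hd
    simp only [c]
    rw [Nat.factorization_mul (pow_ne_zero _ hp.ne_zero) hm0, Finsupp.add_apply,
      Nat.factorization_pow_self hp, Nat.factorization_eq_zero_of_not_dvd hm, add_zero,
      Nat.mul_div_cancel_left _ (pow_pos hp.pos _)]
  have hc1 : c 1 = 1 := hcc 1 1 0 1 rfl (pow_zero p).symm hp.not_dvd_one
  -- degrees of `N`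
  have hN : D3 N (c a) (c b) := by
    intro ψ hψ
    obtain ⟨χ, hχ, hne⟩ := Degrees.exists_over N hψ
    obtain ⟨e, he, hei⟩ := degree_quot_dvd_index hχ hψ hne
    obtain ⟨i, -, hi⟩ := (Nat.dvd_prime_pow hp).mp (hk ▸ hei)
    have hdeg : Cfsg.charDegree χ = e * Cfsg.charDegree ψ := by
      have h : (Cfsg.charDegree χ : ℂ) = ((e * Cfsg.charDegree ψ : ℕ) : ℂ) := by
        rw [cast_deg hχ, Nat.cast_mul, cast_deg hψ, he]
      exact_mod_cast h
    have hψp : ¬ p ∣ Cfsg.charDegree ψ := fun h =>
      hp.coprime_iff_not_dvd.mp hNcop.symm (h.trans (Degrees.charDegree_dvd_card hψ))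
    have h1 := hcc _ e i _ hdeg hi hψp
    rcases hcd χ hχ with h | h | h <;> rw [h] at h1
    · exact Or.inl (h1.symm.trans hc1)
    · exact Or.inr (Or.inl h1.symm)
    · exact Or.inr (Or.inr h1.symm)
  set L : Subgroup G := ⁅N, N⁆ with hL
  have hLn : L.Normal := Subgroup.commutator_normal N N
  have hLN : L = (derivedSeries N 1).map N.subtype := by
    rw [hL, derivedSeries_one, Subgroup.map_subtype_commutator]
  -- degrees of `G / L` are powers of `p`
  have hq : ∀ ψ : G ⧸ L → ℂ, Cfsg.IsIrrCharacter (G ⧸ L) ψ → ∃ i, Cfsg.charDegree ψ = p ^ i := by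
    intro ψ hψ
    set χ : G → ℂ := ψ ∘ QuotientGroup.mk' L with hχdef
    have hχ : Cfsg.IsIrrCharacter G χ :=
      Char.isIrrCharacter_comp_surjective hψ _ (QuotientGroup.mk'_surjective L)
    obtain ⟨θ, hθ, hne⟩ := exists_irr_constituent_restrict (N := N) hχ
    have hθ1 : θ 1 = 1 := by
      refine isIrreducible_quot_linear (N := commutator N) (fun x y => ?_) hθ fun x hx => ?_
      · exact Subgroup.commutator_mem_commutator (Subgroup.mem_top x) (Subgroup.mem_top y)
      · refine constituent_eq_one (Char.isCharacter_restrict (Char.irr_isCharacter hχ) N) hθ hne ?_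
        have hxL : (x : G) ∈ L := by
          rw [hLN, derivedSeries_one]
          exact ⟨x, hx, rfl⟩
        show ψ ((x : G) : G ⧸ L) = ψ (((1 : N) : G) : G ⧸ L)
        rw [(QuotientGroup.eq_one_iff _).mpr hxL, OneMemClass.coe_one, QuotientGroup.mk_one]
    obtain ⟨e, he, hei⟩ := degree_quot_dvd_index hχ hθ hne
    obtain ⟨i, -, hi⟩ := (Nat.dvd_prime_pow hp).mp (hk ▸ hei)
    refine ⟨i, ?_⟩
    rw [← deg_comp hψ _ (QuotientGroup.mk'_surjective L)]
    have h : (Cfsg.charDegree χ : ℂ) = ((p ^ i : ℕ) : ℂ) := by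
      rw [cast_deg hχ, he, hθ1, mul_one, hi]
    exact_mod_cast h
  have hGL : derivedSeries G 2 ≤ L := by
    refine derived_le_of_quot L ?_
    by_cases hap : ∃ i, a = p ^ i
    · refine derived_two_of_two (c := a) fun ψ hψ => ?_
      rcases (hcd.quotient L) ψ hψ with h | h | h
      · exact Or.inl h
      · exact Or.inr h
      · obtain ⟨i, hi⟩ := hq ψ hψ
        exact absurd ⟨hap, i, h.symm.trans hi⟩ hpow
    · refine derived_two_of_two (c := b) fun ψ hψ => ?_
      rcases (hcd.quotient L) ψ hψ with h | h | h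
      · exact Or.inl h
      · obtain ⟨i, hi⟩ := hq ψ hψ
        exact absurd ⟨i, h.symm.trans hi⟩ hap
      · exact Or.inr h
  by_cases htwo : c a = 1 ∨ c b = 1 ∨ c a = c b
  · have hN2 : derivedSeries N 2 = ⊥ := by
      rcases htwo with h | h | h
      · refine derived_two_of_two (c := c b) fun ψ hψ => ?_
        rcases hN ψ hψ with h' | h' | h'
        · exact Or.inl h'
        · exact Or.inl (h'.trans h)
        · exact Or.inr h'
      · refine derived_two_of_two (c := c a) fun ψ hψ => ?_
        rcases hN ψ hψ with h' | h' | h'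
        · exact Or.inl h'
        · exact Or.inr h'
        · exact Or.inl (h'.trans h)
      · refine derived_two_of_two (c := c a) fun ψ hψ => ?_
        rcases hN ψ hψ with h' | h' | h'
        · exact Or.inl h'
        · exact Or.inr h'
        · exact Or.inr (h'.trans h.symm)
    have h3 := derived_le_map_add (hGL.trans hLN.le) 1
    rwa [hN2, Subgroup.map_bot, le_bot_iff] at h3
  · push Not at htwo
    obtain ⟨hca, hcb, -⟩ := htwo
    have hGL1 : derivedSeries G 1 ≤ L := by
      refine derived_le_of_quot L (derived_one_of_linear fun ψ hψ => ?_)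
      obtain ⟨i, hi⟩ := hq ψ hψ
      have hnp : ∀ d, c d ≠ 1 → ∀ i, d ≠ p ^ i := fun d hd i he =>
        hd (hcc d (p ^ i) i 1 (by rw [he, mul_one]) rfl hp.not_dvd_one)
      rcases (hcd.quotient L) ψ hψ with h | h | h
      · exact h
      · exact absurd (h.symm.trans hi) (hnp a hca i)
      · exact absurd (h.symm.trans hi) (hnp b hcb i)
    have h3 := derived_le_map_add (hGL1.trans hLN.le) 2
    rwa [ih N hNlt _ _ hN, Subgroup.map_bot, le_bot_iff] at h3

theorem main : ∀ (n : ℕ) (G : Type u) [Group G] [Finite G], Nat.card G ≤ n →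
    ∀ a b : ℕ, D3 G a b → derivedSeries G 3 = ⊥ := by
  intro n
  induction n with
  | zero => intro G _ _ hle; exact absurd (Nat.le_zero.mp hle) Nat.card_pos.ne'
  | succ n ih =>
    intro G _ _ hle a b hcd
    classical
    have := Fintype.ofFinite G
    have htwo : ∀ c, (∀ χ : G → ℂ, Cfsg.IsIrrCharacter G χ →
        Cfsg.charDegree χ = 1 ∨ Cfsg.charDegree χ = c) → derivedSeries G 3 = ⊥ := fun c h =>
      le_bot_iff.mp ((derivedSeries_antitone G (by omega : 2 ≤ 3)).trans (derived_two_of_two h).le)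
    by_cases hreal : (a ≠ 1 ∧ ∃ χ : Cfsg.IrrCharacter G, Cfsg.charDegree (χ : G → ℂ) = a) ∧
        (b ≠ 1 ∧ ∃ χ : Cfsg.IrrCharacter G, Cfsg.charDegree (χ : G → ℂ) = b) ∧ a ≠ b
    swap
    · replace hreal := not_and_or.mp hreal |>.imp_right not_and_or.mp
      rcases hreal with h | h | h
      · refine htwo b fun χ hχ => ?_
        rcases hcd χ hχ with h' | h' | h'
        · exact Or.inl h'
        · by_cases ha : a = 1
          · exact Or.inl (h'.trans ha)
          · exact absurd ⟨ha, ⟨χ, hχ⟩, h'⟩ h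
        · exact Or.inr h'
      · refine htwo a fun χ hχ => ?_
        rcases hcd χ hχ with h' | h' | h'
        · exact Or.inl h'
        · exact Or.inr h'
        · by_cases hb : b = 1
          · exact Or.inl (h'.trans hb)
          · exact absurd ⟨hb, ⟨χ, hχ⟩, h'⟩ h
      · refine htwo a fun χ hχ => ?_
        rcases hcd χ hχ with h' | h' | h'
        · exact Or.inl h'
        · exact Or.inr h'
        · exact Or.inr (h'.trans (not_not.mp h).symm)
    obtain ⟨⟨ha1, χa, hχa⟩, ⟨hb1, χb, hχb⟩, hab⟩ := hreal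
    have ha : 1 < a := by have := deg_pos χa.2; omega
    have hb : 1 < b := by have := deg_pos χb.2; omega
    by_cases hcop : a.Coprime b
    swap
    · obtain ⟨p, hp, hpa, hpb⟩ := Nat.Prime.not_coprime_iff_dvd.mp hcop
      exact derived_three_of_common hcd ha hb hp hpa hpb ⟨χa, hχa⟩
        fun N hN a' b' h => ih N (by omega) a' b' h
    have hreal : ∀ c, c = a ∨ c = b →
        ∃ χ : Cfsg.IrrCharacter G, Cfsg.charDegree (χ : G → ℂ) = c := by
      rintro c (rfl | rfl)
      · exact ⟨χa, hχa⟩
      · exact ⟨χb, hχb⟩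
    by_cases hs : Group.IsSolvable G
    · exact derived_three_of_coprime hs hcd hcop ha hb hreal
    exfalso
    set D := derivedSeries G 3 with hD
    have hDn : D.Normal := derivedSeries_normal G 3
    have hDne : D ≠ ⊥ := fun h => hs ((Group.isSolvable_def G).mpr ⟨3, h⟩)
    have hquot : ∀ K : Subgroup G, K.Normal → K ≠ ⊥ → D ≤ K := by
      intro K hK hne
      refine derived_le_of_quot K (ih (G ⧸ K) ?_ a b (hcd.quotient K))
      have h1 : K.index * Nat.card K = Nat.card G := K.index_mul_card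
      have h2 : 2 ≤ Nat.card K := (Subgroup.one_lt_card_iff_ne_bot K).mpr hne
      rw [← Subgroup.index_eq_card]
      have h3 : K.index * 2 ≤ K.index * Nat.card K := Nat.mul_le_mul_left _ h2
      have h4 : K.index ≠ 0 := K.index_ne_zero_of_finite
      omega
    have hperf : ⁅D, D⁆ = D := by
      refine le_antisymm (Subgroup.commutator_le_left D D) (hquot _ inferInstance fun h => hs ?_)
      exact (Group.isSolvable_def G).mpr ⟨4, by rw [derivedSeries_succ, ← hD, h]⟩
    have hcen : ∀ g : G, (∀ h : G, g * h = h * g) → g = 1 := by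
      intro g hg
      by_contra hg1
      apply hDne
      rw [← hperf, eq_bot_iff, Subgroup.commutator_le]
      intro x hx y _
      have hx' := hquot (Subgroup.center G) inferInstance (fun h => hg1 (by
        rw [← Subgroup.mem_bot, ← h, Subgroup.mem_center_iff]
        exact fun y => (hg y).symm)) hx
      rw [Subgroup.mem_bot, commutatorElement_def, ← Subgroup.mem_center_iff.mp hx' y]
      group
    have hfaith : ∀ (χ : Cfsg.IrrCharacter G), (∃ x ∈ D, (χ : G → ℂ) x ≠ (χ : G → ℂ) 1) →
        ∀ g, (χ : G → ℂ) g = (χ : G → ℂ) 1 → g = 1 := by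
      rintro χ ⟨x, hx, hxne⟩ g hg
      by_contra hg1
      refine hxne (BlockB.mem_charKer.mp (hquot (BlockB.charKer χ) inferInstance (fun h => hg1 ?_) hx))
      rw [← Subgroup.mem_bot, ← h]
      exact hg
    have hne1 : ∀ χ : Cfsg.IrrCharacter G, (∃ x ∈ D, (χ : G → ℂ) x ≠ (χ : G → ℂ) 1) →
        Cfsg.charDegree (χ : G → ℂ) ≠ 1 := by
      rintro χ ⟨x, hx, hxne⟩ h1
      obtain ⟨lam, hlam⟩ := Char.exists_hom_of_degree_one (Char.irr_isCharacter χ.2)
        (by rw [← cast_deg χ.2, h1, Nat.cast_one])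
      apply hxne
      have := DFunLike.congr_fun (eq_one_of_perfect hperf (lam.comp D.subtype)) ⟨x, hx⟩
      rw [hlam]
      simp only [MonoidHom.comp_apply, MonoidHom.one_apply, Subgroup.coe_subtype] at this
      simp [this]
    obtain ⟨χ, hχd, hχne⟩ := exists_other_degree hperf hDne b
    have hχa' : Cfsg.charDegree (χ : G → ℂ) = a := by
      rcases hcd χ.1 χ.2 with h | h | h
      · exact absurd h (hne1 χ hχne)
      · exact h
      · exact absurd h hχd
    obtain ⟨η, hηd, hηne⟩ := exists_other_degree hperf hDne a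
    have hηb : Cfsg.charDegree (η : G → ℂ) = b := by
      rcases hcd η.1 η.2 with h | h | h
      · exact absurd h (hne1 η hηne)
      · exact absurd h hηd
      · exact h
    rcases single_type hcd hcop hab (by omega) (by omega) χ.2 hχa' η.2 hηb with h | h
    · exact not_aType hcd hcop ha hb hcen χ.2 hχa' η.2 hηb (hfaith η hηne) h
    · exact not_aType hcd.symm hcop.symm hb ha hcen η.2 hηb χ.2 hχa' (hfaith χ hχne) h

end CfsgLib.ThreeDeg
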