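import Cfsg.Agent.Lib.ThreeDeg.Basic
import Cfsg.Agent.Lib.Clifford.Correspondence
import Cfsg.Agent.Lib.Clifford.CosetAvg
import Cfsg.Agent.Lib.Clifford.Cover
import Mathlib.GroupTheory.Nilpotent

/-!
# Solvable groups with two coprime nonlinear degrees
-/

set_option autoImplicit false

namespace CfsgLib.ThreeDeg

open CfsgLib CfsgLib.Clifford
open scoped commutatorElement

universe u

variable {G : Type u} [Group G] [Fintype G] {a b : ℕ}

theorem exists_linear_quot_ne_one (A K : Subgroup G) [K.Normal] (hab : ⁅A, A⁆ ≤ K) (hKA : K < A) :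
    ∃ lam : A →* ℂˣ, (∀ x : A, (x : G) ∈ K → lam x = 1) ∧ lam ≠ 1 := by
  classical
  set K' := K.subgroupOf A with hK'
  have hcomm : ∀ x y : A ⧸ K', x * y = y * x := by
    intro x y
    obtain ⟨x, rfl⟩ := QuotientGroup.mk_surjective x
    obtain ⟨y, rfl⟩ := QuotientGroup.mk_surjective y
    rw [← QuotientGroup.mk_mul, ← QuotientGroup.mk_mul, QuotientGroup.eq, Subgroup.mem_subgroupOf]
    have h := hab (Subgroup.commutator_mem_commutator (A.inv_mem y.2) (A.inv_mem x.2))
    simpa [commutatorElement_def, mul_assoc] using h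
  obtain ⟨z, hzA, hzK⟩ := SetLike.exists_of_lt hKA
  have hne : ((⟨z, hzA⟩ : A) : A ⧸ K') ≠ 1 := fun h => hzK ((QuotientGroup.eq_one_iff (⟨z, hzA⟩ : A)).mp h)
  obtain ⟨μ, hμ⟩ := Char.exists_linear_ne_one hcomm hne
  refine ⟨μ.comp (QuotientGroup.mk' K'), fun x hx => ?_, fun h => ?_⟩
  · rw [MonoidHom.comp_apply, QuotientGroup.mk'_apply, (QuotientGroup.eq_one_iff x).mpr hx, map_one]
  · have h1 := DFunLike.congr_fun h (⟨z, hzA⟩ : A)
    simp only [MonoidHom.comp_apply, QuotientGroup.mk'_apply, MonoidHom.one_apply] at h1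
    exact hμ (by simpa using h1)

/-- A normal subgroup above an abelian Frobenius-like section has at most two degrees. -/
theorem two_degrees_of_section (hcd : D3 G a b) (hcop : a.Coprime b) (ha : 1 < a) (hb : 1 < b)
    (A K : Subgroup G) [A.Normal] [K.Normal] {q : ℕ} (hq : q.Prime) (hKA : K < A)
    (habA : ⁅A, A⁆ ≤ K) (habG : commutator G ≤ A) (hAne : A ≠ ⊤)
    (hidxq : ∃ m, K.relIndex A = q ^ m) (hqA : ¬ q ∣ A.index)
    (hfix : ∀ x : G, x ∉ A → ∀ lam : A →* ℂˣ, (∀ k : A, (k : G) ∈ K → lam k = 1) →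
      (∀ k : A, lam (conjN x k) = lam k) → lam = 1) :
    derivedSeries G 3 = ⊥ := by
  classical
  have := Fintype.ofFinite A
  set f := A.index with hf
  have hf0 : f ≠ 0 := A.index_ne_zero_of_finite
  have hf1 : f ≠ 1 := fun h => hAne (Subgroup.index_eq_one.mp h)
  -- characters induced from regular orbits
  have hind : ∀ ψ : A → ℂ, Cfsg.IsIrrCharacter A ψ → (∀ x : G, x ∉ A → conjFn x ψ ≠ ψ) →
      f * Cfsg.charDegree ψ = a ∨ f * Cfsg.charDegree ψ = b := by
    intro ψ hψ hfree
    have hirr : Cfsg.IsIrrCharacter G (Cfsg.indFun A ψ) := by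
      refine isIrrCharacter_of_classInner_self (Char.isCharacter_indFun A (Char.irr_isCharacter hψ)) ?_
      rw [classInner_indFun_indFun hψ hψ, Nat.card_congr (Equiv.subtypeEquivRight fun x =>
        (⟨fun h => by by_contra hx; exact hfree x hx h, fun hx =>
          mem_inertia_iff_conjFn.mp (le_inertia (Char.irr_isClassFunction hψ) hx)⟩ :
            conjFn x ψ = ψ ↔ x ∈ A))]
      exact inv_mul_cancel₀ (Nat.cast_ne_zero.mpr Nat.card_pos.ne')
    have hdeg : Cfsg.charDegree (Cfsg.indFun A ψ) = f * Cfsg.charDegree ψ := by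
      have h : (Cfsg.charDegree (Cfsg.indFun A ψ) : ℂ) = ((f * Cfsg.charDegree ψ : ℕ) : ℂ) := by
        rw [cast_deg hirr, Char.indFun_apply_one, Nat.cast_mul, cast_deg hψ]
      exact_mod_cast h
    rcases hcd _ hirr with h | h | h
    · rw [hdeg, mul_eq_one] at h
      exact absurd h.1 hf1
    · exact Or.inl (hdeg ▸ h)
    · exact Or.inr (hdeg ▸ h)
  have hfab : f = a ∨ f = b := by
    obtain ⟨lam, hlK, hlne⟩ := exists_linear_quot_ne_one A K habA hKA
    have hl := Char.isIrrCharacter_linear lam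
    have h := hind _ hl fun x hx he => hlne (hfix x hx lam hlK fun k => Units.ext (congr_fun he k))
    have h1 : Cfsg.charDegree (fun g : A => (lam g : ℂ)) = 1 := by
      have : (Cfsg.charDegree (fun g : A => (lam g : ℂ)) : ℂ) = 1 := by
        rw [cast_deg hl, map_one, Units.val_one]
      exact_mod_cast this
    rwa [h1, mul_one] at h
  -- we may assume `f = a`
  wlog hfa : f = a generalizing a b
  · exact this hcd.symm hcop.symm hb ha (fun ψ h1 h2 => (hind ψ h1 h2).symm) hfab.symm
      (hfab.resolve_left hfa)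
  have hA2 : derivedSeries A 2 = ⊥ := by
    refine derived_two_of_two (c := b) fun ψ hψ => ?_
    by_cases h1 : Cfsg.charDegree ψ = 1
    · exact Or.inl h1
    refine Or.inr ?_
    obtain ⟨χ, hχ, hne⟩ := Degrees.exists_over A hψ
    obtain ⟨e, he, hef⟩ := degree_quot_dvd_index hχ hψ hne
    have hdeg : Cfsg.charDegree χ = e * Cfsg.charDegree ψ := by
      have h : (Cfsg.charDegree χ : ℂ) = ((e * Cfsg.charDegree ψ : ℕ) : ℂ) := by
        rw [cast_deg hχ, Nat.cast_mul, cast_deg hψ, he]
      exact_mod_cast h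
    rw [← hf, hfa] at hef
    rcases hcd χ hχ with h | h | h
    · rw [hdeg, mul_eq_one] at h
      exact absurd h.2 h1
    · exfalso
      -- the degree of `ψ` is prime to `q`, so `ψ` restricts irreducibly to `K`
      set K' := K.subgroupOf A with hK'
      have := Fintype.ofFinite K'
      obtain ⟨φ, hφ, hφne⟩ := exists_irr_constituent_restrict (N := K') hψ
      obtain ⟨e', he', he'i⟩ := degree_quot_dvd_index hψ hφ hφne
      have hψq : ¬ q ∣ Cfsg.charDegree ψ := fun hd => hqA (by
        rw [hfa, ← h, hdeg]; exact hd.mul_left e)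
      have he'1 : e' = 1 := by
        obtain ⟨m, hm⟩ := hidxq
        change K'.index = q ^ m at hm
        obtain ⟨i, -, hi⟩ := (Nat.dvd_prime_pow hq).mp (hm ▸ he'i)
        rcases i with - | i
        · exact hi
        · refine absurd (Dvd.intro (Cfsg.charDegree φ * q ^ i) ?_) hψq
          have h2 : (Cfsg.charDegree ψ : ℂ) = ((q * (Cfsg.charDegree φ * q ^ i) : ℕ) : ℂ) := by
            rw [cast_deg hψ, he', hi]
            push_cast
            rw [cast_deg hφ]; ring
          exact_mod_cast h2.symm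
      have hres : (fun x : K' => ψ x) = φ := by
        obtain ⟨R, hR, hRe⟩ := exists_add_of_constituent
          (Char.isCharacter_restrict (Char.irr_isCharacter hψ) K') hφ hφne
        have hR1 : R 1 = 0 := by
          have h2 := congr_fun hRe 1
          simp only [OneMemClass.coe_one, Pi.add_apply, he', he'1, Nat.cast_one, one_mul] at h2
          simpa using h2
        rw [hRe, eq_zero_of_apply_one_eq_zero hR hR1, add_zero]
      -- the twists of `ψ`
      let tw : (A →* ℂˣ) → A → ℂ := fun lam x => (lam x : ℂ) * ψ x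
      have htw : ∀ lam, Cfsg.IsIrrCharacter A (tw lam) := fun lam =>
        Char.isIrrCharacter_mul_linear hψ lam
      have htwinj : ∀ μ ν : A →* ℂˣ, (∀ k : A, (k : G) ∈ K → μ k = 1) →
          (∀ k : A, (k : G) ∈ K → ν k = 1) → tw μ = tw ν → μ = ν := by
        intro μ ν hμ hν he
        by_contra hne'
        have h2 := classInner_mul_mul K' (Char.irr_isCharacter hψ) (hres ▸ hφ)
          (fun x => (μ x : ℂ)) (fun x => (ν x : ℂ))
          (fun k x => by rw [map_mul, hμ _ k.2, one_mul])
          (fun k x => by rw [map_mul, hν _ k.2, one_mul])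
        have h3 : Cfsg.classInner (fun x => (μ x : ℂ)) (fun x => (ν x : ℂ)) = 0 :=
          Char.irr_classInner_ne (Char.isIrrCharacter_linear μ) (Char.isIrrCharacter_linear ν)
            fun h4 => hne' (MonoidHom.ext fun x => Units.ext (congr_fun h4 x))
        rw [h3, show ψ * (fun x => (μ x : ℂ)) = tw μ from funext fun x => mul_comm _ _,
          show ψ * (fun x => (ν x : ℂ)) = tw μ from (funext fun x => mul_comm _ _).trans he.symm,
          Char.irr_classInner_self (htw μ)] at h2
        exact one_ne_zero h2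
      -- some twist has trivial inertia
      obtain ⟨lam₀, hl0, hl0ne⟩ := exists_linear_quot_ne_one A K habA hKA
      suffices ∃ μ : A →* ℂˣ, ∀ x : G, x ∉ A → conjFn x (tw μ) ≠ tw μ by
        obtain ⟨μ, hμ⟩ := this
        have hd2 := hind _ (htw μ) hμ
        have hd3 : Cfsg.charDegree (tw μ) = Cfsg.charDegree ψ := by
          have : (Cfsg.charDegree (tw μ) : ℂ) = Cfsg.charDegree ψ := by
            rw [cast_deg (htw μ), cast_deg hψ]; simp [tw]
          exact_mod_cast this
        rw [hd3, hfa] at hd2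
        rcases hd2 with hd2 | hd2
        · exact h1 (Nat.eq_of_mul_eq_mul_left (by omega) (hd2.trans (mul_one a).symm))
        · exact ha.ne' (Nat.eq_one_of_dvd_coprimes hcop dvd_rfl (Dvd.intro _ hd2))
      by_contra hcon
      push Not at hcon
      obtain ⟨x, hxA, hx⟩ := hcon 1
      obtain ⟨y, hyA, hy⟩ := hcon lam₀
      have hone : tw 1 = ψ := funext fun z => by simp [tw]
      rw [hone] at hx
      -- `y` fixes the restriction to `K`
      have hyK : ∀ k : A, (k : G) ∈ K → ψ (conjN y k) = ψ k := by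
        intro k hk
        have h2 := congr_fun hy k
        simp only [conjFn_apply, tw, hl0 k hk, hl0 _ (show ((conjN y k : A) : G) ∈ K from
          (inferInstance : K.Normal).conj_mem _ hk y), Units.val_one, one_mul] at h2
        exact h2
      have habA' : ∀ s t : A, s * t * s⁻¹ * t⁻¹ ∈ K' := fun s t => by
        rw [Subgroup.mem_subgroupOf]
        exact habA (Subgroup.commutator_mem_commutator s.2 t.2)
      have hinvK : ∀ s : A, conjFn s φ = φ := fun s => by
        rw [← hres]; funext k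
        exact Char.irr_isClassFunction hψ (k : A) s
      have hψy : Cfsg.IsIrrCharacter A (conjFn y ψ) := isIrrCharacter_conjFn hψ y
      obtain ⟨μ, hμK, hμ⟩ := exists_twist_of_abelian_quot habA' hφ hinvK hψ hψy
        (by rw [hres, Char.irr_classInner_self hφ]; exact one_ne_zero)
        (by
          rw [show (fun k : K' => conjFn y ψ k) = φ from by
            rw [← hres]; funext k; exact hyK k k.2, Char.irr_classInner_self hφ]
          exact one_ne_zero)
      have hμK' : ∀ k : A, (k : G) ∈ K → μ k = 1 := fun k hk => hμK ⟨k, hk⟩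
      let μx : A →* ℂˣ := μ.comp
        { toFun := conjN x, map_one' := Subtype.ext (by simp),
          map_mul' := fun s t => Subtype.ext (by simp) }
      have hxy : conjFn x (conjFn y ψ) = conjFn y ψ := by
        rw [conjFn_conjFn]
        have hc : (y * x) = ⁅y, x⁆ * (x * y) := by rw [commutatorElement_def]; group
        rw [hc, ← conjFn_conjFn,
          mem_inertia_iff_conjFn.mp (le_inertia (Char.irr_isClassFunction hψ) (habG
            (Subgroup.commutator_mem_commutator (Subgroup.mem_top y) (Subgroup.mem_top x)))),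
          ← conjFn_conjFn, hx]
      have hμeq : μx = μ := by
        refine htwinj μx μ (fun k hk => hμK' _ ((inferInstance : K.Normal).conj_mem _ hk x)) hμK'
          (funext fun k => ?_)
        have h2 := congr_fun hxy k
        rw [hμ] at h2
        simp only [conjFn_apply] at h2
        rw [show ψ (conjN x k) = ψ k from congr_fun hx k] at h2
        exact h2
      have hμ1 : μ = 1 := hfix x hxA μ hμK' fun k => DFunLike.congr_fun hμeq k
      have hyψ : conjFn y ψ = ψ := by rw [hμ, hμ1]; funext z; simp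
      apply hl0ne
      refine hfix y hyA lam₀ hl0 fun k => ?_
      let ly : A →* ℂˣ := lam₀.comp
        { toFun := conjN y, map_one' := Subtype.ext (by simp),
          map_mul' := fun s t => Subtype.ext (by simp) }
      have hly : ly = lam₀ := by
        refine htwinj ly lam₀ (fun k hk => hl0 _ ((inferInstance : K.Normal).conj_mem _ hk y)) hl0
          (funext fun k => ?_)
        have h2 := congr_fun hy k
        simp only [conjFn_apply, tw] at h2
        rw [show ψ (conjN y k) = ψ k from congr_fun hyψ k] at h2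
        exact h2
      exact DFunLike.congr_fun hly k
    · -- degree `b`
      rw [hdeg] at h
      have he1 : e = 1 := Nat.eq_one_of_dvd_coprimes hcop hef (Dvd.intro _ h)
      rw [he1, one_mul] at h
      exact h
  have h1 : derivedSeries G 1 ≤ (derivedSeries A 0).map A.subtype := by
    rw [derivedSeries_zero, ← MonoidHom.range_eq_map, Subgroup.range_subtype, derivedSeries_one]
    exact habG
  have h3 := derived_le_map_add h1 2
  rw [Nat.zero_add, hA2, Subgroup.map_bot, le_bot_iff] at h3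
  exact h3

/-- No nilpotent nonabelian quotient when the degrees are coprime and both occur. -/
theorem false_of_prime_power_quot (hcd : D3 G a b) (hcop : a.Coprime b) (ha : 1 < a) (hb : 1 < b)
    (hrealb : ∀ c, c = a ∨ c = b → ∃ χ : Cfsg.IrrCharacter G, Cfsg.charDegree (χ : G → ℂ) = c)
    (K : Subgroup G) [K.Normal] {q : ℕ} (hq : q.Prime) (hK : IsPGroup q (G ⧸ K))
    (hna : ¬ commutator G ≤ K) : False := by
  classical
  have := Fintype.ofFinite K
  obtain ⟨m, hm⟩ : ∃ m, Nat.card (G ⧸ K) = q ^ m := by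
    have := Fact.mk hq
    exact IsPGroup.iff_card.mp hK
  obtain ⟨ψ, hψ1⟩ : ∃ ψ : Cfsg.IrrCharacter (G ⧸ K), Cfsg.charDegree (ψ : G ⧸ K → ℂ) ≠ 1 := by
    by_contra hcon
    push Not at hcon
    have hab := Char.comm_iff_forall_degree_one.mpr fun ψ : Cfsg.IrrCharacter (G ⧸ K) => by
      rw [← cast_deg ψ.2, hcon ψ, Nat.cast_one]
    apply hna
    rw [commutator_def, Subgroup.commutator_le]
    intro x _ y _
    rw [← QuotientGroup.eq_one_iff, commutatorElement_def, QuotientGroup.mk_mul,
      QuotientGroup.mk_mul, QuotientGroup.mk_mul, QuotientGroup.mk_inv, QuotientGroup.mk_inv,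
      hab (x : G ⧸ K) y]
    group
  obtain ⟨i, -, hi⟩ := (Nat.dvd_prime_pow hq).mp (hm ▸ Degrees.charDegree_dvd_card ψ.2)
  set β : G → ℂ := (ψ : G ⧸ K → ℂ) ∘ QuotientGroup.mk' K with hβ
  have hβirr : Cfsg.IsIrrCharacter G β :=
    Char.isIrrCharacter_comp_surjective ψ.2 _ (QuotientGroup.mk'_surjective K)
  have hβdeg : Cfsg.charDegree β = q ^ i := (deg_comp ψ.2 _ (QuotientGroup.mk'_surjective K)).trans hi
  have hβ1 : q ^ i ≠ 1 := hi ▸ hψ1
  obtain ⟨g, hg, hgq⟩ : ∃ g, (g = a ∨ g = b) ∧ (q ^ i).Coprime g := by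
    rcases hcd β hβirr with h | h | h
    · exact absurd (hβdeg.symm.trans h) hβ1
    · exact ⟨b, Or.inr rfl, by rw [← hβdeg, h]; exact hcop⟩
    · exact ⟨a, Or.inl rfl, by rw [← hβdeg, h]; exact hcop.symm⟩
  obtain ⟨η, hη⟩ := hrealb g hg
  obtain ⟨θ, hθ, hne⟩ := exists_irr_constituent_restrict (N := K) η.2
  obtain ⟨e, he, hei⟩ := degree_quot_dvd_index η.2 hθ hne
  have heg : e ∣ g := ⟨Cfsg.charDegree θ, by
    have h : (g : ℂ) = ((e * Cfsg.charDegree θ : ℕ) : ℂ) := by
      rw [← hη, cast_deg η.2, Nat.cast_mul, cast_deg hθ, he]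
    exact_mod_cast h⟩
  have he1 : e = 1 := by
    rw [Subgroup.index_eq_card, hm] at hei
    have hqg : (q ^ m).Coprime g := by
      rcases Nat.eq_zero_or_pos i with h0 | h0
      · exact absurd (by rw [h0, pow_zero]) hβ1
      · exact Nat.Coprime.pow_left m ((Nat.coprime_pow_left_iff h0 q g).mp hgq)
    exact Nat.eq_one_of_dvd_coprimes hqg hei heg
  have hres : Cfsg.IsIrrCharacter K (fun k : K => (η : G → ℂ) k) := by
    obtain ⟨R, hR, hRe⟩ := exists_add_of_constituent
      (Char.isCharacter_restrict (Char.irr_isCharacter η.2) K) hθ hne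
    have hR1 : R 1 = 0 := by
      have h2 := congr_fun hRe 1
      simp only [OneMemClass.coe_one, Pi.add_apply, he, he1, Nat.cast_one, one_mul] at h2
      simpa using h2
    rw [hRe, eq_zero_of_apply_one_eq_zero hR hR1, add_zero]
    exact hθ
  have hprod := isIrrCharacter_mul_of_invariant K (Char.irr_isCharacter η.2) hres hβirr
    (fun k x => by simp [hβ, (QuotientGroup.eq_one_iff (k : G)).mpr k.2])
  have hdeg : Cfsg.charDegree ((η : G → ℂ) * β) = g * q ^ i := by
    have h : (Cfsg.charDegree ((η : G → ℂ) * β) : ℂ) = ((g * q ^ i : ℕ) : ℂ) := by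
      rw [cast_deg hprod, Pi.mul_apply, Nat.cast_mul, ← hη, ← hβdeg, cast_deg η.2, cast_deg hβirr]
    exact_mod_cast h
  have hqi : 1 < q ^ i := by
    have := Nat.one_le_pow i q hq.pos
    omega
  have hg1 : 1 < g := by rcases hg with rfl | rfl <;> assumption
  have hlt1 : g < g * q ^ i := lt_mul_of_one_lt_right (by omega) hqi
  have hlt2 : q ^ i < g * q ^ i := lt_mul_of_one_lt_left (by omega) hg1
  have hset := hcd β hβirr
  rw [hβdeg] at hset
  rcases hcd _ hprod with h | h | h <;> rw [hdeg] at h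
  · omega
  all_goals
    rcases hg with rfl | rfl <;> rcases hset with h' | h' | h' <;>
      first | omega | exact absurd h' hβ1 | (exfalso; rw [h'] at hgq; rw [Nat.coprime_self] at hgq; omega)

/-- Solvable groups with two coprime nonlinear degrees. -/
theorem derived_three_of_coprime (hs : Group.IsSolvable G) (hcd : D3 G a b) (hcop : a.Coprime b)
    (ha : 1 < a) (hb : 1 < b)
    (hreal : ∀ c, c = a ∨ c = b → ∃ χ : Cfsg.IrrCharacter G, Cfsg.charDegree (χ : G → ℂ) = c) :
    derivedSeries G 3 = ⊥ := by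
  classical
  have hna : ¬ commutator G ≤ ⊥ := by
    intro h
    obtain ⟨χ, hχ⟩ := hreal a (Or.inl rfl)
    have hab : ∀ x y : G, x * y = y * x := fun x y => by
      have h1 := h (Subgroup.commutator_mem_commutator (Subgroup.mem_top x) (Subgroup.mem_top y))
      rw [Subgroup.mem_bot, commutatorElement_def, mul_inv_eq_one, mul_inv_eq_iff_eq_mul] at h1
      exact h1
    have h2 := Char.irr_degree_one_of_comm hab χ.2
    rw [← cast_deg χ.2, hχ] at h2
    have : a = 1 := by exact_mod_cast h2
    omega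
  obtain ⟨K, -, ⟨hKn, hKna⟩, hKmax⟩ := Finite.exists_le_maximal
    (p := fun K : Subgroup G => K.Normal ∧ ¬ commutator G ≤ K) (a := ⊥) ⟨inferInstance, hna⟩
  set A : Subgroup G := commutator G ⊔ K with hA
  have hKA : K < A := lt_of_le_of_ne le_sup_right fun h => hKna (h ▸ le_sup_left)
  have hmin : ∀ L : Subgroup G, L.Normal → K ≤ L → L ≤ A → L = K ∨ L = A := by
    intro L hL hKL hLA
    by_cases hc : commutator G ≤ L
    · exact Or.inr (le_antisymm hLA (sup_le hc hKL))
    · exact Or.inl (le_antisymm (hKmax ⟨hL, hc⟩ hKL) hKL)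
  have hAn : A.Normal := inferInstance
  have habA : ⁅A, A⁆ ≤ K := by
    rcases hmin (⁅A, A⁆ ⊔ K) inferInstance le_sup_right
      (sup_le (Subgroup.commutator_le_left A A) hKA.le) with h | h
    · exact le_sup_left.trans h.le
    · exfalso
      have h1 : ⁅A.map (QuotientGroup.mk' K), A.map (QuotientGroup.mk' K)⁆ =
          A.map (QuotientGroup.mk' K) := by
        rw [← Subgroup.map_commutator]
        conv_rhs => rw [← h, Subgroup.map_sup, QuotientGroup.map_mk'_self, sup_bot_eq]
      have : Group.IsSolvable (G ⧸ K) :=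
        Group.isSolvable_of_surjective (QuotientGroup.mk'_surjective K)
      refine (Group.IsSolvable.commutator_lt_of_ne_bot ?_).ne h1
      rw [Ne, Subgroup.map_eq_bot_iff, QuotientGroup.ker_mk']
      exact not_le_of_gt hKA
  have habG : commutator G ≤ A := le_sup_left
  have hmem : ∀ x y : G, ⁅x, y⁆ ∈ A := fun x y =>
    habG (Subgroup.commutator_mem_commutator (Subgroup.mem_top x) (Subgroup.mem_top y))
  set π := QuotientGroup.mk' K with hπ
  set B := A.map π with hB
  have hBn : B.Normal := Subgroup.Normal.map hAn π (QuotientGroup.mk'_surjective K)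
  have hBne : B ≠ ⊥ := fun h => by
    rw [hB, Subgroup.map_eq_bot_iff, hπ, QuotientGroup.ker_mk'] at h
    exact not_le_of_gt hKA h
  have hBmin : ∀ L : Subgroup (G ⧸ K), L.Normal → L ≤ B → L = ⊥ ∨ L = B := by
    intro L hL hLB
    rcases hmin (L.comap π) (hL.comap π) (QuotientGroup.le_comap_mk' _ _) (fun x hx => by
        obtain ⟨y, hy, hxy⟩ := hLB hx
        have := (QuotientGroup.eq).mp hxy
        simpa using A.mul_mem hy (hKA.le this)) with h | h
    · left
      rw [← Subgroup.map_comap_eq_self_of_surjective (QuotientGroup.mk'_surjective K) L, ← hπ, h,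
        hπ, QuotientGroup.map_mk'_self]
    · right
      rw [← Subgroup.map_comap_eq_self_of_surjective (QuotientGroup.mk'_surjective K) L, ← hπ, h]
  have hBc : ∀ x ∈ B, ∀ y ∈ B, x * y = y * x := by
    rintro _ ⟨x, hx, rfl⟩ _ ⟨y, hy, rfl⟩
    have h1 : π ⁅x, y⁆ = 1 :=
      (QuotientGroup.eq_one_iff _).mpr (habA (Subgroup.commutator_mem_commutator hx hy))
    rwa [map_commutatorElement, commutatorElement_def, mul_inv_eq_one, mul_inv_eq_iff_eq_mul] at h1
  have hcB : ∀ x y : G ⧸ K, ⁅x, y⁆ ∈ B := by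
    intro x y
    obtain ⟨x, rfl⟩ := QuotientGroup.mk'_surjective K x
    obtain ⟨y, rfl⟩ := QuotientGroup.mk'_surjective K y
    exact ⟨⁅x, y⁆, hmem x y, map_commutatorElement π x y⟩
  -- `B` is a `q`-group
  obtain ⟨q, hq, hqB⟩ := Nat.exists_prime_and_dvd
    (fun h => hBne (Subgroup.card_eq_one.mp h) : Nat.card B ≠ 1)
  haveI := Fact.mk hq
  have hBq : ∀ x ∈ B, x ^ q = 1 := by
    let T : Subgroup (G ⧸ K) :=
      { carrier := {z | z ∈ B ∧ z ^ q = 1}
        one_mem' := ⟨B.one_mem, one_pow _⟩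
        mul_mem' := by
          rintro u v ⟨hu, hu'⟩ ⟨hv, hv'⟩
          exact ⟨B.mul_mem hu hv, by
            rw [Commute.mul_pow (hBc u hu v hv), hu', hv', one_mul]⟩
        inv_mem' := by
          rintro u ⟨hu, hu'⟩
          exact ⟨B.inv_mem hu, by rw [inv_pow, hu', inv_one]⟩ }
    have hTn : T.Normal := ⟨fun z hz g => ⟨hBn.conj_mem z hz.1 g, by
      rw [conj_pow, hz.2, mul_one, mul_inv_cancel]⟩⟩
    rcases hBmin T hTn (fun z hz => hz.1) with h | h
    · exfalso
      obtain ⟨z, hz⟩ := exists_prime_orderOf_dvd_card' q hqB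
      have hzT : (z : G ⧸ K) ∈ T := ⟨z.2, by
        rw [← SubmonoidClass.coe_pow, ← hz, pow_orderOf_eq_one, OneMemClass.coe_one]⟩
      rw [h, Subgroup.mem_bot] at hzT
      rw [show z = 1 from Subtype.ext hzT, orderOf_one] at hz
      exact hq.ne_one hz.symm
    · exact fun x hx => (h.ge hx).2
  by_cases hcen : B ≤ Subgroup.center (G ⧸ K)
  · -- then `G / K` is a `q`-group
    exfalso
    refine false_of_prime_power_quot hcd hcop ha hb hreal K hq ?_ hKna
    intro x
    by_contra hx
    push Not at hx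
    obtain ⟨r, hr, hrx, hrq⟩ : ∃ r, r.Prime ∧ r ∣ orderOf x ∧ r ≠ q := by
      by_contra hcon
      push Not at hcon
      refine hx ((orderOf x).primeFactorsList.length) ?_
      have h := Nat.eq_prime_pow_of_unique_prime_dvd (orderOf_pos x).ne' (fun hd hd' => hcon _ hd hd')
      exact h ▸ pow_orderOf_eq_one x
    set z := x ^ (orderOf x / r) with hz
    have hzo : orderOf z = r := by
      rw [hz, orderOf_pow_of_dvd (Nat.div_ne_zero_iff_of_dvd hrx |>.mpr ⟨(orderOf_pos x).ne', hr.ne_zero⟩)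
        (Nat.div_dvd_of_dvd hrx), Nat.div_div_self hrx (orderOf_pos x).ne']
    have hzc : z ∈ Subgroup.center (G ⧸ K) := by
      rw [Subgroup.mem_center_iff]
      intro y
      have hcc : ∀ n : ℕ, ⁅z ^ n, y⁆ = ⁅z, y⁆ ^ n := by
        intro n
        induction n with
        | zero => simp
        | succ n ihn =>
          have hc := Subgroup.mem_center_iff.mp (hcen (hcB z y))
          calc ⁅z ^ (n + 1), y⁆ = z ^ n * ⁅z, y⁆ * (z ^ n)⁻¹ * ⁅z ^ n, y⁆ := by
                rw [commutatorElement_def, commutatorElement_def, commutatorElement_def]; group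
            _ = ⁅z, y⁆ * ⁅z ^ n, y⁆ := by rw [hc (z ^ n), mul_inv_cancel_right]
            _ = ⁅z, y⁆ ^ (n + 1) := by rw [ihn, pow_succ']
      have h1 : ⁅z, y⁆ ^ r = 1 := by
        rw [← hcc, ← hzo, pow_orderOf_eq_one, commutatorElement_one_left]
      have h2 : ⁅z, y⁆ = 1 := orderOf_eq_one_iff.mp (Nat.eq_one_of_dvd_coprimes
        ((Nat.coprime_primes hr hq).mpr hrq) (orderOf_dvd_of_pow_eq_one h1)
        (orderOf_dvd_of_pow_eq_one (hBq _ (hcB z y))))
      rw [commutatorElement_def, mul_inv_eq_one, mul_inv_eq_iff_eq_mul] at h2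
      exact h2.symm
    set Z : Subgroup (G ⧸ K) := Subgroup.zpowers z with hZ
    have hZn : Z.Normal := ⟨fun u hu g => by
      obtain ⟨k, rfl⟩ := hu
      rw [Subgroup.mem_center_iff.mp (zpow_mem hzc k) g, mul_inv_cancel_right]
      exact zpow_mem (Subgroup.mem_zpowers z) k⟩
    have hzB : Z ⊓ B = ⊥ := by
      refine Subgroup.inf_eq_bot_of_coprime ?_
      rw [hZ, Nat.card_zpowers, hzo]
      refine hr.coprime_iff_not_dvd.mpr fun h => ?_
      obtain ⟨w, hw⟩ := exists_prime_orderOf_dvd_card' (G := B) (hp := ⟨hr⟩) r h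
      have h1 : orderOf w ∣ q := orderOf_dvd_of_pow_eq_one (Subtype.ext (by
        rw [SubmonoidClass.coe_pow]; exact hBq _ w.2))
      rw [hw] at h1
      exact hrq ((Nat.prime_dvd_prime_iff_eq hr hq).mp h1)
    have hAZ : ¬ commutator G ≤ Z.comap π := by
      intro h
      apply hBne
      rw [← le_bot_iff, ← hzB]
      refine le_inf ?_ le_rfl
      rintro _ ⟨y, hy, rfl⟩
      exact (sup_le h (QuotientGroup.le_comap_mk' K Z) : A ≤ Z.comap π) hy
    have h3 := hKmax ⟨hZn.comap π, hAZ⟩ (QuotientGroup.le_comap_mk' _ _)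
    obtain ⟨g, hg⟩ := QuotientGroup.mk'_surjective K z
    have hgK : g ∈ K := h3 (by rw [Subgroup.mem_comap, hg]; exact Subgroup.mem_zpowers z)
    rw [← hg, QuotientGroup.mk'_apply, (QuotientGroup.eq_one_iff g).mpr hgK, orderOf_one] at hzo
    exact hr.ne_one hzo.symm
  -- `B` is not central: fixed points of elements outside the centraliser are trivial
  set C := Subgroup.centralizer (B : Set (G ⧸ K)) with hC
  have hfixed : ∀ w : G ⧸ K, w ∉ C → ∀ u ∈ B, w * u = u * w → u = 1 := by
    intro w hw u hu huw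
    let T : Subgroup (G ⧸ K) := B ⊓ Subgroup.centralizer {w}
    have hTn : T.Normal := ⟨fun s hs g => ⟨hBn.conj_mem s hs.1 g, by
      change _ ∈ Subgroup.centralizer _
      rw [Subgroup.mem_centralizer_singleton_iff]
      have hs2 := Subgroup.mem_centralizer_singleton_iff.mp hs.2
      have hd : ⁅g⁻¹, w⁆ ∈ B := hcB _ _
      have h1 : g⁻¹ * w * g = ⁅g⁻¹, w⁆ * w := by rw [commutatorElement_def]; group
      have h2 : s * (g⁻¹ * w * g) = (g⁻¹ * w * g) * s := by
        rw [h1, ← mul_assoc, hBc s hs.1 _ hd, mul_assoc, hs2, mul_assoc]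
      calc g * s * g⁻¹ * w = g * (s * (g⁻¹ * w * g)) * g⁻¹ := by group
        _ = w * (g * s * g⁻¹) := by rw [h2]; group⟩⟩
    have huT : u ∈ T := ⟨hu, Subgroup.mem_centralizer_singleton_iff.mpr huw.symm⟩
    rcases hBmin T hTn inf_le_left with h | h
    · rwa [h, Subgroup.mem_bot] at huT
    · refine absurd (Subgroup.mem_centralizer_iff.mpr fun s hs => ?_) hw
      exact Subgroup.mem_centralizer_singleton_iff.mp (h.ge hs).2
  -- the centraliser of `B` is `B`
  have hCB : C ≤ B := by
    obtain ⟨w, hw⟩ : ∃ w, w ∉ C := by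
      by_contra h
      push Not at h
      exact hcen fun u hu => Subgroup.mem_center_iff.mpr fun y =>
        (Subgroup.mem_centralizer_iff.mp (h y) u hu).symm
    have hCn : C.Normal := inferInstance
    set Cw : Subgroup (G ⧸ K) := C ⊓ Subgroup.centralizer {w} with hCw
    have hCwn : Cw.Normal := ⟨fun s hs g => ⟨hCn.conj_mem s hs.1 g, by
      change _ ∈ Subgroup.centralizer _
      rw [Subgroup.mem_centralizer_singleton_iff]
      have hs2 := Subgroup.mem_centralizer_singleton_iff.mp hs.2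
      have hd : ⁅g⁻¹, w⁆ ∈ B := hcB _ _
      have hsd := Subgroup.mem_centralizer_iff.mp hs.1 _ hd
      have h1 : g⁻¹ * w * g = ⁅g⁻¹, w⁆ * w := by rw [commutatorElement_def]; group
      have h2 : s * (g⁻¹ * w * g) = (g⁻¹ * w * g) * s := by
        rw [h1, ← mul_assoc, ← hsd, mul_assoc, hs2, mul_assoc]
      calc g * s * g⁻¹ * w = g * (s * (g⁻¹ * w * g)) * g⁻¹ := by group
        _ = w * (g * s * g⁻¹) := by rw [h2]; group⟩⟩
    have hCwB : Cw ⊓ B = ⊥ := by
      rw [eq_bot_iff]
      intro u hu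
      exact hfixed w hw u hu.2 (Subgroup.mem_centralizer_singleton_iff.mp hu.1.2).symm
    -- `Cw` is trivial
    have hCw1 : Cw = ⊥ := by
      have hnc : ¬ commutator G ≤ Cw.comap π := by
        intro h
        apply hBne
        rw [← le_bot_iff, ← hCwB]
        refine le_inf ?_ le_rfl
        rintro _ ⟨y, hy, rfl⟩
        exact (sup_le h (QuotientGroup.le_comap_mk' K Cw) : A ≤ Cw.comap π) hy
      have h3 := hKmax ⟨hCwn.comap π, hnc⟩ (QuotientGroup.le_comap_mk' _ _)
      rw [eq_bot_iff]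
      intro u hu
      obtain ⟨g, rfl⟩ := QuotientGroup.mk'_surjective K u
      rw [Subgroup.mem_bot, QuotientGroup.mk'_apply, QuotientGroup.eq_one_iff]
      exact h3 hu
    -- the commutator map with `w`
    let φ : B → B := fun u => ⟨⁅(u : G ⧸ K), w⁆, hcB _ _⟩
    have hmul : ∀ c d : G ⧸ K, c ∈ C → ⁅c * d, w⁆ = ⁅d, w⁆ * ⁅c, w⁆ := by
      intro c d hc
      have h1 := Subgroup.mem_centralizer_iff.mp hc _ (hcB d w)
      calc ⁅c * d, w⁆ = (c * ⁅d, w⁆) * c⁻¹ * ⁅c, w⁆ := by
            simp only [commutatorElement_def]; group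
        _ = ⁅d, w⁆ * ⁅c, w⁆ := by rw [← h1]; group
    have hBC : B ≤ C := fun u hu => Subgroup.mem_centralizer_iff.mpr fun v hv => hBc v hv u hu
    have hinj : Function.Injective φ := by
      intro u v huv
      have he : ⁅(u : G ⧸ K), w⁆ = ⁅(v : G ⧸ K), w⁆ := congr_arg Subtype.val huv
      have h1 := hmul ((u : G ⧸ K) * (v : G ⧸ K)⁻¹) v
        (C.mul_mem (hBC u.2) (C.inv_mem (hBC v.2)))
      rw [inv_mul_cancel_right, he] at h1
      have h2 : ⁅(u : G ⧸ K) * (v : G ⧸ K)⁻¹, w⁆ = 1 := mul_left_cancel (h1.symm.trans (mul_one _).symm)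
      rw [commutatorElement_def, mul_inv_eq_one, mul_inv_eq_iff_eq_mul] at h2
      have h3 := hfixed w hw _ (B.mul_mem u.2 (B.inv_mem v.2)) h2.symm
      exact Subtype.ext (mul_inv_eq_one.mp h3)
    intro c hc
    obtain ⟨u, hu⟩ := (Finite.injective_iff_surjective.mp hinj) ⟨⁅c, w⁆, hcB c w⟩
    have hu' : ⁅(u : G ⧸ K), w⁆ = ⁅c, w⁆ := congr_arg Subtype.val hu
    have hd : (u : G ⧸ K)⁻¹ * c ∈ Cw := by
      refine ⟨C.mul_mem (C.inv_mem (hBC u.2)) hc, Subgroup.mem_centralizer_singleton_iff.mpr ?_⟩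
      have h1 := hmul (u : G ⧸ K) ((u : G ⧸ K)⁻¹ * c) (hBC u.2)
      rw [mul_inv_cancel_left, ← hu'] at h1
      have h2 : ⁅(u : G ⧸ K)⁻¹ * c, w⁆ = 1 := mul_right_cancel (h1.symm.trans (one_mul _).symm)
      rw [commutatorElement_def, mul_inv_eq_one, mul_inv_eq_iff_eq_mul] at h2
      exact h2
    rw [hCw1, Subgroup.mem_bot, inv_mul_eq_one] at hd
    exact hd ▸ u.2
  have hout : ∀ x : G, x ∉ A → π x ∉ C := fun x hx h => by
    obtain ⟨y, hy, hxy⟩ := hCB h
    have := (QuotientGroup.eq).mp hxy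
    exact hx (by simpa using A.mul_mem hy (hKA.le this))
  refine two_degrees_of_section hcd hcop ha hb A K hq hKA habA habG ?_ ?_ ?_ ?_
  · intro h
    refine hcen fun u hu => Subgroup.mem_center_iff.mpr fun y => ?_
    have hy : y ∈ B := by
      obtain ⟨g, rfl⟩ := QuotientGroup.mk'_surjective K y
      exact ⟨g, h ▸ Subgroup.mem_top g, rfl⟩
    exact hBc y hy u hu
  · have hBp : IsPGroup q B := fun u => ⟨1, Subtype.ext (by simpa using hBq _ u.2)⟩
    obtain ⟨m, hm⟩ := IsPGroup.iff_card.mp hBp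
    refine ⟨m, ?_⟩
    rw [← hm, hB, ← Subgroup.relIndex_bot_left, ← QuotientGroup.map_mk'_self K,
      Subgroup.relIndex_map_map, QuotientGroup.ker_mk', sup_idem, sup_of_le_left hKA.le]
  · intro hd
    obtain ⟨z, hz⟩ := exists_prime_orderOf_dvd_card' (G := G ⧸ A) q (A.index_eq_card ▸ hd)
    obtain ⟨x, rfl⟩ := QuotientGroup.mk_surjective z
    have hxA : x ∉ A := fun h => hq.ne_one (by
      rw [← hz, (QuotientGroup.eq_one_iff x).mpr h, orderOf_one])
    set w := π x with hw
    -- `w` acts on `B` with order dividing `q`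
    have hwq : w ^ q ∈ B := by
      refine ⟨x ^ q, ?_, map_pow π x q⟩
      show x ^ q ∈ A
      rw [← QuotientGroup.eq_one_iff, QuotientGroup.mk_pow, ← hz, pow_orderOf_eq_one]
    letI : MulAction (Multiplicative ℤ) B :=
      { smul := fun k u => ⟨w ^ (Multiplicative.toAdd k) * u * (w ^ (Multiplicative.toAdd k))⁻¹,
          hBn.conj_mem _ u.2 _⟩
        one_smul := fun u => Subtype.ext (by
          change w ^ (Multiplicative.toAdd (1 : Multiplicative ℤ)) * (u : G ⧸ K) * _ = _
          simp)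
        mul_smul := fun k l u => Subtype.ext (by
          change w ^ (Multiplicative.toAdd (k * l)) * (u : G ⧸ K) * _ =
            w ^ (Multiplicative.toAdd k) *
              (w ^ (Multiplicative.toAdd l) * (u : G ⧸ K) * (w ^ (Multiplicative.toAdd l))⁻¹) * _
          rw [toAdd_mul, zpow_add]; group) }
    let σ : Equiv.Perm B := MulAction.toPerm (Multiplicative.ofAdd (1 : ℤ))
    have hσ : ∀ u : B, ((σ u : B) : G ⧸ K) = w * u * w⁻¹ := fun u => by
      change w ^ (1 : ℤ) * (u : G ⧸ K) * (w ^ (1 : ℤ))⁻¹ = _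
      simp
    have hσq : σ ^ q = 1 := by
      ext u
      have hpow : ∀ n : ℕ, (((σ ^ n) u : B) : G ⧸ K) = w ^ n * u * (w ^ n)⁻¹ := by
        intro n
        induction n with
        | zero => simp
        | succ n ihn => rw [pow_succ', Equiv.Perm.mul_apply, hσ, ihn]; group
      rw [hpow, hBc _ hwq _ u.2, mul_inv_cancel_right]
      rfl
    have hBp : IsPGroup q B := fun u => ⟨1, Subtype.ext (by simpa using hBq _ u.2)⟩
    obtain ⟨m, hm⟩ := IsPGroup.iff_card.mp hBp
    have hσfix : σ 1 = 1 := Subtype.ext (by rw [hσ]; simp)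
    have hm0 : m ≠ 0 := fun h0 => hBne (Subgroup.card_eq_one.mp (by rw [hm, h0, pow_zero]))
    have hdvd : q ∣ Fintype.card B := by
      rw [← Nat.card_eq_fintype_card, hm]; exact dvd_pow_self q hm0
    obtain ⟨u, hu, hu1⟩ := Equiv.Perm.exists_fixed_point_of_prime' hdvd
      (n := 1) (by rwa [pow_one]) hσfix
    apply hu1
    refine Subtype.ext (hfixed w (hout x hxA) u u.2 ?_)
    have h1 := congr_arg Subtype.val hu
    rw [hσ] at h1
    exact mul_inv_eq_iff_eq_mul.mp h1
  · intro x hxA lam hlamK hlam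
    set w := π x with hw
    let φ : B → B := fun u => ⟨⁅w, (u : G ⧸ K)⁆, hcB _ _⟩
    have hinj : Function.Injective φ := by
      intro u v huv
      have he : ⁅w, (u : G ⧸ K)⁆ = ⁅w, (v : G ⧸ K)⁆ := congr_arg Subtype.val huv
      simp only [commutatorElement_def] at he
      have h1 : w * ((u : G ⧸ K)) * w⁻¹ * (u : G ⧸ K)⁻¹ * v = w * v * w⁻¹ := by rw [he]; group
      have hcomm := hBc _ (hBn.conj_mem _ u.2 w) _ (B.mul_mem (B.inv_mem u.2) v.2)
      have h2 : w * ((u : G ⧸ K)⁻¹ * v) * w⁻¹ = (u : G ⧸ K)⁻¹ * v := by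
        calc w * ((u : G ⧸ K)⁻¹ * v) * w⁻¹
            = (w * (u : G ⧸ K) * w⁻¹)⁻¹ * (w * v * w⁻¹) := by group
          _ = (w * (u : G ⧸ K) * w⁻¹)⁻¹ * (w * (u : G ⧸ K) * w⁻¹ * ((u : G ⧸ K)⁻¹ * v)) := by
              rw [← h1]; group
          _ = (u : G ⧸ K)⁻¹ * v := by group
      have h3 := hfixed w (hout x hxA) _ (B.mul_mem (B.inv_mem u.2) v.2)
        (mul_inv_eq_iff_eq_mul.mp h2)
      exact Subtype.ext (inv_mul_eq_one.mp h3)
    refine MonoidHom.ext fun k => ?_
    obtain ⟨u, hu⟩ := (Finite.injective_iff_surjective.mp hinj)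
      ⟨π (k : G), Subgroup.mem_map_of_mem π k.2⟩
    obtain ⟨v, hv, hvu⟩ := u.2
    have h1 : π ⁅x, v⁆ = π (k : G) := by
      rw [map_commutatorElement, hvu]
      exact congr_arg Subtype.val hu
    have h2 := (QuotientGroup.eq).mp h1.symm
    let c : A := conjN x ⟨v, hv⟩ * (⟨v, hv⟩ : A)⁻¹
    have hc1 : lam c = 1 := by rw [map_mul, map_inv, hlam, mul_inv_cancel]
    have hc2 : lam (k⁻¹ * c) = 1 := hlamK _ (by
      simpa [c, commutatorElement_def, mul_assoc] using h2)
    rw [map_mul, map_inv, hc1, mul_one, inv_eq_one] at hc2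
    exact hc2

end CfsgLib.ThreeDeg
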